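import Cfsg.Agent.ThreeFullWreath.Arith
import Mathlib.Algebra.Order.Field.Basic
import Mathlib.Tactic.FinCases
import Mathlib.Tactic.Ring
import Mathlib.Algebra.BigOperators.Fin

/-!
# The arithmetic of the columns
-/

set_option autoImplicit false

namespace Cfsg.Agent.ThreeTINine

universe u

variable {ι : Type u} [Fintype ι]

/-- A vector of norm two orthogonal to a positive vector is a difference of two basis vectors. -/
theorem two_norm (f d : ι → ℤ) (hd : ∀ x, 0 < d x) (h2 : ∑ x, f x * f x = 2) (h0 : ∑ x, f x * d x = 0) :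
    ∃ p q, p ≠ q ∧ f p = 1 ∧ f q = -1 ∧ d p = d q ∧ ∀ x, x ≠ p → x ≠ q → f x = 0 := by
  classical
  set S := Finset.univ.filter fun x => f x ≠ 0
  have hS : ∑ x ∈ S, f x * f x = 2 := by
    rw [← h2]
    exact Finset.sum_filter_of_ne fun x _ hx e => hx (by simp [e])
  have h1 : ∀ x ∈ S, f x = 1 ∨ f x = -1 := fun x hx => by
    have hle : f x * f x ≤ 2 := hS ▸ Finset.single_le_sum (f := fun x => f x * f x)
      (fun y _ => mul_self_nonneg _) hx
    have hne := (Finset.mem_filter.1 hx).2
    have : -1 ≤ f x ∧ f x ≤ 1 := ⟨by nlinarith, by nlinarith⟩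
    omega
  have hc : S.card = 2 := by
    have : ∑ x ∈ S, f x * f x = ∑ x ∈ S, (1 : ℤ) := Finset.sum_congr rfl fun x hx => by
      rcases h1 x hx with e | e <;> simp [e]
    rw [this, Finset.sum_const, nsmul_eq_mul, mul_one] at hS
    exact_mod_cast hS
  obtain ⟨p, q, hpq, hSpq⟩ := Finset.card_eq_two.1 hc
  have hoff : ∀ x, x ≠ p → x ≠ q → f x = 0 := fun x hp hq => by
    by_contra hne
    have : x ∈ S := Finset.mem_filter.2 ⟨Finset.mem_univ _, hne⟩
    rw [hSpq] at this
    simp [hp, hq] at this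
  have hsum : f p * d p + f q * d q = 0 := by
    rw [← h0, ← Finset.sum_subset (Finset.subset_univ ({p, q} : Finset ι)), Finset.sum_pair hpq]
    intro x _ hx
    simp only [Finset.mem_insert, Finset.mem_singleton, not_or] at hx
    simp [hoff x hx.1 hx.2]
  have := hd p
  have := hd q
  rcases h1 p (by simp [hSpq]) with ep | ep <;> rcases h1 q (by simp [hSpq]) with eq | eq <;>
    rw [ep, eq] at hsum
  · omega
  · exact ⟨p, q, hpq, ep, eq, by omega, hoff⟩
  · exact ⟨q, p, hpq.symm, eq, ep, by omega, fun x hq hp => hoff x hp hq⟩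
  · omega

theorem diff_mul (a b : ι → ℤ) (B : ι → ℤ) (hB : ∀ x, a x - b x = 3 * B x) (g : ι → ℤ) :
    3 * ∑ x, B x * g x = ∑ x, a x * g x - ∑ x, b x * g x := by
  rw [Finset.mul_sum, ← Finset.sum_sub_distrib]
  exact Finset.sum_congr rfl fun x _ => by rw [← sub_mul, hB]; ring

theorem inv_ge {D : ℤ} (h : (9 : ℤ) ∣ D - 1) : -1 / 8 ≤ (1 : ℚ) / D := by
  rcases (show 0 < D ∨ D ≤ -8 by omega) with hD | hD
  · have : (0 : ℚ) < D := by exact_mod_cast hD
    have : (0 : ℚ) < 1 / D := div_pos one_pos this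
    linarith
  · have : (D : ℚ) ≤ -8 := by exact_mod_cast hD
    rw [le_div_iff_of_neg (by linarith)]
    linarith

/-- Four classes: only linear characters are possible. -/
theorem linear_of_four (o : ι) (a : Fin 4 → ι → ℤ) (d : ι → ℤ) (hd : ∀ x, 0 < d x) (hdo : d o = 1)
    (hao : ∀ j, a j o = 1) (gram : ∀ i j, ∑ x, a i x * a j x = if i = j then 9 else 0)
    (hsd : ∀ j, ∑ x, a j x * d x = 0) (hcong : ∀ i j x, 3 ∣ a i x - a j x)
    (hS : ∑ x, (a 0 x : ℚ) * a 1 x * a 0 x / d x = 0) : ∃ x, x ≠ o ∧ d x = 1 := by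
  classical
  choose B hB using fun j => fun x => hcong 0 j x
  have gB : ∀ j, ∑ x, B j x * d x = 0 := fun j => by
    have := diff_mul (a 0) (a j) (B j) (hB j) d
    rw [hsd, hsd] at this
    omega
  have gBa : ∀ j k, ∑ x, B j x * a k x = (if 0 = k then 3 else 0) - if j = k then 3 else 0 := fun j k => by
    have := diff_mul (a 0) (a j) (B j) (hB j) (a k)
    rw [gram, gram] at this
    split_ifs at this ⊢ <;> omega
  have gBB : ∀ j k, j ≠ 0 → k ≠ 0 → ∑ x, B j x * B k x = if j = k then 2 else 1 := fun j k hj hk => by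
    have := diff_mul (a 0) (a k) (B k) (hB k) (B j)
    rw [Finset.sum_congr rfl fun x _ => mul_comm (a 0 x) (B j x),
      Finset.sum_congr rfl fun x _ => mul_comm (a k x) (B j x),
      Finset.sum_congr rfl fun x _ => mul_comm (B k x) (B j x), gBa, gBa, if_pos rfl,
      if_neg hj, if_neg (Ne.symm hk)] at this
    split_ifs at this ⊢ <;> omega
  have two : ∀ j, j ≠ 0 → ∃ p q, p ≠ q ∧ B j p = 1 ∧ B j q = -1 ∧ d p = d q ∧
      ∀ x, x ≠ p → x ≠ q → B j x = 0 := fun j hj =>
    two_norm (B j) d hd (by rw [gBB j j hj hj, if_pos rfl]) (gB j)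
  haveI : Nonempty ι := ⟨o⟩
  choose! P Q hPQ hP hQ hdPQ hoff using two
  have dot : ∀ j k, j ≠ 0 → k ≠ 0 → j ≠ k → B k (P j) - B k (Q j) = 1 := fun j k hj hk hjk => by
    have := gBB j k hj hk
    rw [if_neg hjk, ← Finset.sum_subset (Finset.subset_univ ({P j, Q j} : Finset ι)),
      Finset.sum_pair (hPQ j hj), hP j hj, hQ j hj] at this
    · omega
    · intro x _ hx
      simp only [Finset.mem_insert, Finset.mem_singleton, not_or] at hx
      simp [hoff j hj x hx.1 hx.2]
  have val : ∀ j, j ≠ 0 → ∀ x, B j x = (if x = P j then 1 else 0) - (if x = Q j then 1 else 0) :=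
    fun j hj x => by
      by_cases h1 : x = P j
      · subst h1; rw [hP j hj, if_pos rfl, if_neg (hPQ j hj)]; rfl
      by_cases h2 : x = Q j
      · subst h2; rw [hQ j hj, if_neg h1, if_pos rfl]; rfl
      rw [hoff j hj x h1 h2, if_neg h1, if_neg h2]; rfl
  have share : ∀ j k, j ≠ 0 → k ≠ 0 → j ≠ k →
      (P j = P k ∧ Q j ≠ Q k) ∨ (Q j = Q k ∧ P j ≠ P k) := by
    intro j k hj hk hjk
    have e := dot j k hj hk hjk
    rw [val k hk, val k hk] at e
    by_cases c1 : P j = P k <;> by_cases c2 : Q j = Q k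
    · have := hPQ k hk
      rw [c1, c2, if_pos rfl, if_pos rfl, if_neg this, if_neg this.symm] at e
      omega
    · exact Or.inl ⟨c1, c2⟩
    · exact Or.inr ⟨c2, c1⟩
    · rw [if_neg c1, if_neg c2] at e
      split_ifs at e <;> omega
  obtain ⟨δ, X, hδ, hXinj, hBX, hXd⟩ : ∃ δ : ℤ, ∃ X : Fin 4 → ι, (δ = 1 ∨ δ = -1) ∧ Function.Injective X ∧
      (∀ j x, j ≠ 0 → B j x = δ * ((if x = X 0 then 1 else 0) - (if x = X j then 1 else 0))) ∧
      ∀ j, d (X j) = d (X 0) := by
    have s12 := share 1 2 (by decide) (by decide) (by decide)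
    have s13 := share 1 3 (by decide) (by decide) (by decide)
    have s23 := share 2 3 (by decide) (by decide) (by decide)
    have n1 := hPQ 1 (by decide)
    have n2 := hPQ 2 (by decide)
    have n3 := hPQ 3 (by decide)
    rcases s12 with ⟨e, f⟩ | ⟨e, f⟩
    · obtain ⟨e3, f3⟩ : P 1 = P 3 ∧ Q 1 ≠ Q 3 := by
        rcases s13 with h | ⟨h, h'⟩
        · exact h
        · rcases s23 with ⟨g, -⟩ | ⟨g, -⟩
          · exact absurd (e.trans g) h'
          · exact absurd (h.trans g.symm) f
      have f23 : Q 2 ≠ Q 3 := (s23.resolve_right fun h => h.2 (e.symm.trans e3)).2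
      refine ⟨1, fun j => if j = 0 then P 1 else Q j, Or.inl rfl, ?_, ?_, ?_⟩
      · intro i j h
        fin_cases i <;> fin_cases j <;>
          simp_all [eq_comm]
      · intro j x hj
        have : P j = P 1 := by fin_cases j <;> simp_all
        rw [val j hj, this]
        simp [hj]
      · intro j
        by_cases hj : j = 0
        · rw [hj]
        · have : P j = P 1 := by fin_cases j <;> simp_all
          simp [hj, ← hdPQ j hj, this]
    · obtain ⟨e3, f3⟩ : Q 1 = Q 3 ∧ P 1 ≠ P 3 := by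
        rcases s13 with ⟨h, h'⟩ | h
        · rcases s23 with ⟨g, -⟩ | ⟨g, -⟩
          · exact absurd (h.trans g.symm) f
          · exact absurd (e.trans g) h'
        · exact h
      have f23 : P 2 ≠ P 3 := (s23.resolve_left fun h => h.2 (e.symm.trans e3)).2
      refine ⟨-1, fun j => if j = 0 then Q 1 else P j, Or.inr rfl, ?_, ?_, ?_⟩
      · intro i j h
        fin_cases i <;> fin_cases j <;>
          simp_all [eq_comm]
      · intro j x hj
        have : Q j = Q 1 := by fin_cases j <;> simp_all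
        rw [val j hj, this]
        simp [hj]
      · intro j
        by_cases hj : j = 0
        · rw [hj]
        · have : Q j = Q 1 := by fin_cases j <;> simp_all
          simp [hj, hdPQ j hj, this]
  set t : ι → ℤ := fun x => a 0 x - 3 * δ * if x = X 0 then 1 else 0 with ht
  have hat : ∀ j x, a j x = t x + 3 * δ * if x = X j then 1 else 0 := by
    intro j x
    by_cases hj : j = 0
    · subst hj; simp only [ht]; ring
    · have := hB j x
      rw [hBX j x hj] at this
      simp only [ht]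
      linear_combination -this
  have hdot : ∀ i j, ∑ x, a i x * a j x =
      ∑ x, t x * t x + 3 * δ * t (X i) + 3 * δ * t (X j) + if i = j then 9 else 0 := by
    intro i j
    have e : ∀ x, a i x * a j x = t x * t x + (if x = X i then 3 * δ * t x else 0) +
        (if x = X j then 3 * δ * t x else 0) +
        if x = X i then (if i = j then 9 else 0) else 0 := by
      intro x
      have hδ2 : δ * δ = 1 := by rcases hδ with rfl | rfl <;> norm_num
      rw [hat i, hat j]
      by_cases h1 : x = X i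
      · subst h1
        by_cases h2 : i = j
        · subst h2; simp; linear_combination 9 * hδ2
        · simp [hXinj.eq_iff, h2]; ring
      · simp [h1]
        split_ifs <;> ring
    rw [Finset.sum_congr rfl fun x _ => e x]
    simp [Finset.sum_add_distrib]
  set T := ∑ x, t x * t x with hT
  have hτ : ∀ i, T + 6 * δ * t (X i) = 0 := fun i => by
    have := hdot i i; simp only [gram, if_true] at this; linarith
  have hXo : ∀ j, o ≠ X j := fun j e => by
    rcases eq_or_ne j 0 with rfl | hj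
    · have := hao 1
      have h2 := hat 1 o
      have h3 := hat 0 o
      rw [hao] at h2 h3
      rw [if_pos e, if_neg (fun e' => absurd (hXinj (e.symm.trans e')) (by decide))] at *
      rcases hδ with rfl | rfl <;> omega
    · have h2 := hat j o
      have h3 := hat 0 o
      rw [hao] at h2 h3
      rw [if_pos e] at h2
      rw [if_neg (fun e' => absurd (hXinj (e.symm.trans e')) hj)] at h3
      rcases hδ with rfl | rfl <;> omega
  have hto : t o = 1 := by
    have := hat 0 o
    rw [hao, if_neg (hXo 0)] at this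
    omega
  set τ := δ * t (X 0) with hτdef
  have hτ' : ∀ i, δ * t (X i) = τ := fun i => by
    have := hτ i; have := hτ 0; rw [hτdef]; linarith
  have hTτ : T = -6 * τ := by have := hτ 0; rw [hτdef]; linarith
  have htX : ∀ i, t (X i) = δ * τ := fun i => by
    rw [← hτ' i, ← mul_assoc, show δ * δ = 1 by rcases hδ with rfl | rfl <;> norm_num, one_mul]
  have himg : o ∉ Finset.univ.image X := by simp [eq_comm]; exact fun j => hXo j
  have hbnd : 4 * (τ * τ) + 1 ≤ T := by
    have := Finset.sum_le_univ_sum_of_nonneg (f := fun x => t x * t x) (fun x => mul_self_nonneg (t x))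
      (s := insert o (Finset.univ.image X))
    rw [Finset.sum_insert himg, Finset.sum_image hXinj.injOn, hto] at this
    simp only [htX] at this
    have e : ∀ j : Fin 4, δ * τ * (δ * τ) = τ * τ := fun _ => by
      rcases hδ with rfl | rfl <;> ring
    rw [Finset.sum_congr rfl fun j _ => e j] at this
    simp at this
    linarith
  have hτ1 : τ = -1 := by
    rw [hTτ] at hbnd
    have h1 : -2 < τ := by nlinarith
    have h2 : τ < 0 := by nlinarith
    omega
  set W := insert o (Finset.univ.image X) with hW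
  have hrest : ∑ x ∈ Finset.univ \ W, t x * t x = 1 := by
    have := Finset.sum_sdiff (f := fun x => t x * t x) (Finset.subset_univ W)
    rw [hW, Finset.sum_insert himg, Finset.sum_image hXinj.injOn, hto, ← hW] at this
    simp only [htX, hτ1] at this
    rw [← hT, hTτ, hτ1, Finset.sum_congr rfl fun j _ =>
      show δ * -1 * (δ * -1) = 1 by rcases hδ with rfl | rfl <;> norm_num, Finset.sum_const,
      Finset.card_univ, Fintype.card_fin] at this
    simp only [nsmul_eq_mul, mul_one, Nat.cast_ofNat] at this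
    linarith
  obtain ⟨Y, hYW, hY⟩ : ∃ Y ∈ Finset.univ \ W, t Y * t Y ≠ 0 :=
    Finset.exists_ne_zero_of_sum_ne_zero (by rw [hrest]; norm_num)
  have hYeq : t Y * t Y = 1 ∧ ∀ x ∈ Finset.univ \ W, x ≠ Y → t x = 0 := by
    rw [← Finset.add_sum_erase _ _ hYW] at hrest
    have h0 : 0 ≤ ∑ x ∈ (Finset.univ \ W).erase Y, t x * t x := Finset.sum_nonneg fun x _ => mul_self_nonneg _
    have hp : 0 < t Y * t Y := lt_of_le_of_ne (mul_self_nonneg _) (Ne.symm hY)
    refine ⟨by omega, fun x hx hxY => mul_self_eq_zero.1 ?_⟩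
    exact (Finset.sum_eq_zero_iff_of_nonneg fun y _ => mul_self_nonneg (t y)).1 (by omega) x
      (Finset.mem_erase.2 ⟨hxY, hx⟩)
  have hYo : Y ≠ o := fun e => (Finset.mem_sdiff.1 hYW).2 (by simp [hW, e])
  have hYX : ∀ j, Y ≠ X j := fun j e => (Finset.mem_sdiff.1 hYW).2 (by simp [hW, e])
  have aX : ∀ i j, a i (X j) = δ * (-1 + if i = j then 3 else 0) := fun i j => by
    rw [hat, htX, hτ1]
    by_cases h : i = j
    · subst h; simp; ring
    · simp [hXinj.eq_iff, h, Ne.symm h]
  have aY : ∀ i, a i Y = t Y := fun i => by rw [hat, if_neg (hYX i)]; ring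
  have aoff : ∀ i x, x ∉ insert Y W → a i x = 0 := fun i x hx => by
    simp only [Finset.mem_insert, not_or] at hx
    rw [hat, hYeq.2 x (Finset.mem_sdiff.2 ⟨Finset.mem_univ _, hx.2⟩) hx.1,
      if_neg fun e => hx.2 (by simp [hW, e])]
    ring
  have hsum : ∀ g : ι → ℚ, (∀ x, x ∉ insert Y W → g x = 0) →
      ∑ x, g x = g Y + (g o + (g (X 0) + g (X 1) + g (X 2) + g (X 3))) := fun g hg => by
    rw [← Finset.sum_subset (Finset.subset_univ (insert Y W)) fun x _ hx => hg x hx,
      Finset.sum_insert (Finset.mem_sdiff.1 hYW).2, hW, Finset.sum_insert himg,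
      Finset.sum_image hXinj.injOn, Fin.sum_univ_four]
  have k1 : ∑ x, (a 0 x : ℚ) * d x = 0 := by exact_mod_cast hsd 0
  rw [hsum _ fun x hx => by rw [aoff 0 x hx]; simp] at k1 hS
  simp only [aY, aX, hao, hdo, hXd, show (0 : Fin 4) ≠ 1 by decide, show (0 : Fin 4) ≠ 2 by decide,
    show (0 : Fin 4) ≠ 3 by decide, show (1 : Fin 4) ≠ 0 by decide, show (1 : Fin 4) ≠ 2 by decide,
    show (1 : Fin 4) ≠ 3 by decide, if_true, if_false] at k1 hS
  push_cast at k1 hS
  set f : ℚ := (d (X 0) : ℚ) with hf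
  set dY : ℚ := (d Y : ℚ)
  have hf0 : f ≠ 0 := Int.cast_ne_zero.2 (hd _).ne'
  have hY0 : dY ≠ 0 := Int.cast_ne_zero.2 (hd _).ne'
  have hs : (t Y : ℚ) * t Y = 1 := by exact_mod_cast hYeq.1
  have hδq : (δ : ℚ) * δ = 1 := by rcases hδ with rfl | rfl <;> norm_num
  have e1 : 1 + t Y * dY - δ * f = 0 := by linear_combination k1
  have e2 : (δ : ℚ) * f * dY + t Y * (δ * f) - 4 * dY = 0 := by
    have ht1 : t Y = 1 ∨ t Y = -1 := by
      rcases Int.eq_one_or_neg_one_of_mul_eq_one hYeq.1 with e | e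
      · exact Or.inl e
      · exact Or.inr e
    rcases ht1 with e | e <;> rcases hδ with e' | e' <;> rw [e, e'] at hS ⊢ <;> push_cast at hS ⊢ <;>
      field_simp at hS <;> ring_nf at hS ⊢ <;> linarith
  have hD : t Y * dY = 1 := by
    have h3 : (t Y * dY - 1) ^ 2 = 0 := by
      linear_combination (t Y : ℚ) * e2 + (t Y * dY + 1) * e1 - δ * f * hs
    have := pow_eq_zero_iff (two_ne_zero) |>.1 h3
    linarith
  refine ⟨Y, hYo, ?_⟩
  have : t Y * d Y = 1 := by simp only [dY] at hD; exact_mod_cast hD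
  exact Int.eq_one_of_mul_eq_one_left (hd Y).le this

/-- Two classes: the reciprocal sum is not small. -/
theorem bound_of_two (o : ι) (a b d : ι → ℤ) (hd : ∀ x, 0 < d x) (hdo : d o = 1)
    (hao : a o = 1) (hbo : b o = 1)
    (gaa : ∑ x, a x * a x = 9) (gbb : ∑ x, b x * b x = 9) (gab : ∑ x, a x * b x = 0)
    (had : ∑ x, a x * d x = 0) (hbd : ∑ x, b x * d x = 0) (hc3 : ∀ x, 3 ∣ a x - b x)
    (hc9 : ∀ x, 9 ∣ d x + 4 * a x + 4 * b x) :
    (7 : ℚ) / 20 ≤ ∑ x, (a x : ℚ) * b x * a x / d x := by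
  classical
  choose B hB using hc3
  have eB := fun g => diff_mul a b B hB g
  have sB : ∑ x, B x * B x = 2 := by
    have h1 := eB B
    have h2 := eB a
    have h3 := eB b
    rw [Finset.sum_congr rfl fun x _ => mul_comm (a x) (B x),
      Finset.sum_congr rfl fun x _ => mul_comm (b x) (B x)] at h1
    rw [Finset.sum_congr rfl fun x _ => mul_comm (b x) (a x), gaa, gab] at h2
    rw [gab, gbb] at h3
    omega
  have dB : ∑ x, B x * d x = 0 := by have := eB d; rw [had, hbd] at this; omega
  have aB : ∑ x, B x * a x = 3 ∧ ∑ x, B x * b x = -3 := by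
    have h2 := eB a
    have h3 := eB b
    rw [Finset.sum_congr rfl fun x _ => mul_comm (b x) (a x), gaa, gab] at h2
    rw [gab, gbb] at h3
    omega
  obtain ⟨p, q, hpq, hp, hq, hdpq, hoff⟩ := two_norm B d hd sB dB
  have hBo : B o = 0 := by have := hB o; omega
  have hpo : p ≠ o := fun e => by rw [e, hBo] at hp; omega
  have hqo : q ≠ o := fun e => by rw [e, hBo] at hq; omega
  set C : ι → ℤ := fun x => b x + B x with hC
  have hab : ∀ x, a x = C x + 2 * B x ∧ b x = C x - B x := fun x => by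
    have := hB x; simp only [hC]; constructor <;> omega
  have cB : C p - C q = -1 := by
    have : ∑ x, B x * C x = -1 := by
      simp only [hC, mul_add, Finset.sum_add_distrib, sB, aB.2]; norm_num
    rw [← Finset.sum_subset (Finset.subset_univ ({p, q} : Finset ι)), Finset.sum_pair hpq, hp, hq] at this
    · omega
    · intro x _ hx
      simp only [Finset.mem_insert, Finset.mem_singleton, not_or] at hx
      simp [hoff x hx.1 hx.2]
  have cC : ∑ x, C x * C x = 5 := by
    have : ∀ x, C x * C x = b x * b x + 2 * (B x * b x) + B x * B x := fun x => by simp only [hC]; ring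
    rw [Finset.sum_congr rfl fun x _ => this x, Finset.sum_add_distrib, Finset.sum_add_distrib,
      ← Finset.mul_sum, gbb, sB, aB.2]
    norm_num
  have cd : ∑ x, C x * d x = 0 := by
    simp only [hC, add_mul, Finset.sum_add_distrib, hbd, dB, add_zero]
  have hCo : C o = 1 := by simp [hC, hBo, hbo]
  obtain ⟨δ, X, Y, hδ, hXY, hXo, hYo, hBv, hCX, hCY, hdXY⟩ : ∃ δ : ℤ, ∃ X Y, (δ = 1 ∨ δ = -1) ∧ X ≠ Y ∧
      X ≠ o ∧ Y ≠ o ∧ (∀ x, B x = δ * ((if x = X then 1 else 0) - if x = Y then 1 else 0)) ∧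
      C X = -δ ∧ C Y = 0 ∧ d X = d Y := by
    have hval : ∀ x, B x = (if x = p then 1 else 0) - if x = q then 1 else 0 := fun x => by
      by_cases h1 : x = p
      · subst h1; simp [hp, hpq]
      by_cases h2 : x = q
      · subst h2; simp [hq, h1]
      simp [hoff x h1 h2, h1, h2]
    have hle : C p * C p + C q * C q ≤ 4 := by
      have := Finset.sum_le_univ_sum_of_nonneg (f := fun x => C x * C x) (fun x => mul_self_nonneg _)
        (s := ({o, p, q} : Finset ι))
      rw [Finset.sum_insert (by simp [hpo.symm, hqo.symm]), Finset.sum_pair hpq, cC, hCo] at this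
      linarith
    rcases (show C q = 0 ∨ C p = 0 by
      have e : C p = C q - 1 := by omega
      have : C q ≤ 1 ∧ 0 ≤ C q := ⟨by nlinarith, by nlinarith⟩
      omega) with h | h
    · exact ⟨1, p, q, Or.inl rfl, hpq, hpo, hqo, fun x => by rw [hval]; ring, by omega, h, hdpq⟩
    · exact ⟨-1, q, p, Or.inr rfl, hpq.symm, hqo, hpo, fun x => by rw [hval]; ring, by omega, h,
        hdpq.symm⟩
  set C' : ι → ℤ := fun x => if x = X then 0 else C x with hC'
  have hC's : ∑ x, C' x * C' x = C' o * C' o + 3 := by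
    have e : ∀ x, C x * C x = C' x * C' x + if x = X then 1 else 0 := fun x => by
      simp only [hC']
      split_ifs with h
      · subst h; rw [hCX]; rcases hδ with rfl | rfl <;> norm_num
      · ring
    rw [Finset.sum_congr rfl fun x _ => e x, Finset.sum_add_distrib, Finset.sum_ite_eq'] at cC
    simp only [Finset.mem_univ, if_true] at cC
    rw [show C' o = 1 by simp [hC', hXo.symm, hCo]]
    omega
  obtain ⟨A1, A2, A3, S3⟩ := ThreeFullWreath.exists_supp3 o C' hC's
  have hne : ∀ z, C' z ≠ 0 → z ≠ X ∧ z ≠ Y := fun z hz =>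
    ⟨fun e => hz (by simp [hC', e]), fun e => hz (by simp [hC', e, hXY.symm, hCY])⟩
  have n1 := hne A1 (by rcases S3.fa with e | e <;> omega)
  have n2 := hne A2 (by rcases S3.fb with e | e <;> omega)
  have n3 := hne A3 (by rcases S3.fe with e | e <;> omega)
  have hCoff : ∀ x, x ≠ X → C x = C' x := fun x hx => by simp [hC', hx]
  have hval : ∀ z, z ≠ X → z ≠ Y → a z = C' z ∧ b z = C' z := fun z h1 h2 => by
    obtain ⟨e1, e2⟩ := hab z
    rw [hBv, if_neg h1, if_neg h2, hCoff z h1] at e1 e2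
    constructor <;> simp [e1, e2]
  have vX : a X = δ ∧ b X = -2 * δ := by
    obtain ⟨e1, e2⟩ := hab X
    rw [hBv, if_pos rfl, if_neg hXY, hCX] at e1 e2
    constructor <;> omega
  have vY : a Y = -2 * δ ∧ b Y = δ := by
    obtain ⟨e1, e2⟩ := hab Y
    rw [hBv, if_neg hXY.symm, if_pos rfl, hCY] at e1 e2
    constructor <;> omega
  have hzero : ∀ x ∉ ({o, X, Y, A1, A2, A3} : Finset ι), C x = 0 ∧ a x = 0 := fun x hx => by
    simp only [Finset.mem_insert, Finset.mem_singleton, not_or] at hx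
    have := S3.off x hx.1 hx.2.2.2.1 hx.2.2.2.2.1 hx.2.2.2.2.2
    exact ⟨by rw [hCoff x hx.2.1, this], by rw [(hval x hx.2.1 hx.2.2.1).1, this]⟩
  have hsum : ∀ g : ι → ℚ, (∀ x ∉ ({o, X, Y, A1, A2, A3} : Finset ι), g x = 0) →
      ∑ x, g x = g o + g X + g Y + g A1 + g A2 + g A3 := fun g hg => by
    rw [← Finset.sum_subset (Finset.subset_univ ({o, X, Y, A1, A2, A3} : Finset ι)) fun x _ hx => hg x hx,
      Finset.sum_insert (by simp [hXo.symm, hYo.symm, S3.ao.symm, S3.bo.symm, S3.eo.symm]),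
      Finset.sum_insert (by simp [hXY, n1.1.symm, n2.1.symm, n3.1.symm]),
      Finset.sum_insert (by simp [n1.2.symm, n2.2.symm, n3.2.symm]),
      Finset.sum_insert (by simp [S3.ab, S3.ae]), Finset.sum_pair S3.be]
    ring
  have hsq : ∀ z : ℤ, (z = 1 ∨ z = -1) → (z : ℚ) * z = 1 := fun z hz => by
    rcases hz with rfl | rfl <;> norm_num
  set D1 := C' A1 * d A1
  set D2 := C' A2 * d A2
  set D3 := C' A3 * d A3
  set E := δ * d X with hE
  have hD : ∀ z, z ≠ X → z ≠ Y → (C' z = 1 ∨ C' z = -1) → (9 : ℤ) ∣ C' z * d z - 1 := fun z h1 h2 hz => by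
    have := hc9 z
    rw [(hval z h1 h2).1, (hval z h1 h2).2] at this
    rcases hz with e | e <;> rw [e] at this ⊢ <;> omega
  have m1 := hD A1 n1.1 n1.2 S3.fa
  have m2 := hD A2 n2.1 n2.2 S3.fb
  have m3 := hD A3 n3.1 n3.2 S3.fe
  have mE : (9 : ℤ) ∣ E - 4 := by
    have := hc9 X
    rw [vX.1, vX.2] at this
    rw [hE]
    rcases hδ with rfl | rfl <;> omega
  have hlin : 1 - E + D1 + D2 + D3 = 0 := by
    have h1 : ∑ x, (C x : ℚ) * d x = 0 := by exact_mod_cast cd
    rw [hsum _ fun x hx => by rw [(hzero x hx).1]; simp, hCo, hCX, hCY, hdo, hCoff A1 n1.1, hCoff A2 n2.1,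
      hCoff A3 n3.1] at h1
    have : ((1 - E + D1 + D2 + D3 : ℤ) : ℚ) = 0 := by
      push_cast [E, D1, D2, D3]
      push_cast at h1
      linear_combination h1
    exact_mod_cast this
  have term : ∀ z, z ≠ X → z ≠ Y → (C' z = 1 ∨ C' z = -1) →
      (a z : ℚ) * b z * a z / d z = 1 / ((C' z * d z : ℤ) : ℚ) := fun z h1 h2 hz => by
    rw [(hval z h1 h2).1, (hval z h1 h2).2]
    rcases hz with e | e <;> rw [e] <;> push_cast <;> simp [div_neg, neg_div]
  rw [hsum _ fun x hx => by rw [(hzero x hx).2]; simp, hao, hbo, hdo, vX.1, vX.2, vY.1, vY.2, ← hdXY,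
    term A1 n1.1 n1.2 S3.fa, term A2 n2.1 n2.2 S3.fb, term A3 n3.1 n3.2 S3.fe]
  have eX : ((δ : ℤ) : ℚ) * ((-2 * δ : ℤ) : ℚ) * (δ : ℚ) / d X + ((-2 * δ : ℤ) : ℚ) * δ * ((-2 * δ : ℤ) : ℚ) / d X =
      2 / (E : ℚ) := by
    rw [hE]
    rcases hδ with rfl | rfl <;> push_cast <;> simp [div_neg, neg_div] <;> ring
  have b1 := inv_ge m1
  have b2 := inv_ge m2
  have b3 := inv_ge m3
  have bE : -2 / 5 ≤ (2 : ℚ) / E := by
    rcases (show 0 < E ∨ E ≤ -5 by omega) with h | h
    · have : (0 : ℚ) < E := by exact_mod_cast h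
      have : (0 : ℚ) < 2 / E := div_pos two_pos this
      linarith
    · have : (E : ℚ) ≤ -5 := by exact_mod_cast h
      rw [le_div_iff_of_neg (by linarith)]
      linarith
  push_cast at eX ⊢
  by_cases hpos : 0 < D1 ∨ 0 < D2 ∨ 0 < D3
  · rcases hpos with h | h | h
    all_goals
      have h' : (0 : ℚ) < 1 / ((_ : ℤ) : ℚ) := div_pos one_pos (Int.cast_pos.2 h)
      push_cast [D1, D2, D3] at h' b1 b2 b3
      linarith
  · push Not at hpos
    have hE' : E ≤ -23 := by omega
    have : -1 / 5 ≤ (2 : ℚ) / E := by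
      have : (E : ℚ) ≤ -23 := by exact_mod_cast hE'
      rw [le_div_iff_of_neg (by linarith)]
      linarith
    push_cast [D1, D2, D3] at b1 b2 b3
    linarith

end Cfsg.Agent.ThreeTINine
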