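import Cfsg.Agent.ThreeTINine.Local
import Mathlib.Data.ZMod.Basic

/-!
# Sums over characters in the configuration
-/

set_option autoImplicit false

namespace Cfsg.Agent.ThreeTINine

open Cfsg Cfsg.Agent Subgroup
open scoped ComplexConjugate

universe u

variable {G : Type u} [Group G] [Fintype G] {S : Subgroup G}

open scoped Classical in
theorem sum_mul_conj (x c : G) :
    ∑ χ : IrrCharacter G, (χ : G → ℂ) x * conj ((χ : G → ℂ) c) =
      if IsConj x c then (Nat.card (centralizer ({c} : Set G)) : ℂ) else 0 := by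
  have h := congrArg conj (Char.second_orthogonality c x)
  rw [map_sum, apply_ite conj, map_natCast, map_zero] at h
  simp only [map_mul, Complex.conj_conj] at h
  rw [if_congr isConj_comm rfl rfl, ← h]
  exact Finset.sum_congr rfl fun χ _ => mul_comm _ _

open scoped Classical in
/-- A structure constant computed inside the normalizer. -/
theorem TI.triple_sum (h : TI S) {a b c : G} (ha : a ∈ S) (ha1 : a ≠ 1) (hb : b ∈ S) (hb1 : b ≠ 1)
    (hc : c ∈ S) (hc1 : c ≠ 1) (hn : ¬ (IsConj a b ∧ IsConj (a * a) c)) :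
    ∑ χ : IrrCharacter G, (χ : G → ℂ) a * (χ : G → ℂ) b * conj ((χ : G → ℂ) c) / (χ : G → ℂ) 1 =
      9 * ((Finset.univ.filter fun g : G =>
        g ∈ normalizer (S : Set G) ∧ IsConj (g * a * g⁻¹ * b) c).card : ℂ) / Nat.card G := by
  have hG : (Nat.card G : ℂ) ≠ 0 := Char.card_ne_zero
  have e1 : ∀ χ : IrrCharacter G,
      (χ : G → ℂ) a * (χ : G → ℂ) b * conj ((χ : G → ℂ) c) / (χ : G → ℂ) 1 =
        (Nat.card G : ℂ)⁻¹ * ∑ g, (χ : G → ℂ) (g * a * g⁻¹ * b) * conj ((χ : G → ℂ) c) := fun χ => by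
    have h1 := Char.IsIrr.one_ne_zero χ.2
    have h2 := CharArith.classMult χ.2 a b
    rw [← Finset.sum_mul]
    field_simp
    linear_combination (-conj ((χ : G → ℂ) c)) * h2
  rw [Finset.sum_congr rfl fun χ _ => e1 χ, ← Finset.mul_sum, Finset.sum_comm]
  simp only [sum_mul_conj]
  rw [h.cent c hc hc1, h.card, ← Finset.sum_filter, Finset.sum_const, nsmul_eq_mul]
  have : (Finset.univ.filter fun g : G => IsConj (g * a * g⁻¹ * b) c) = Finset.univ.filter fun g : G =>
      g ∈ normalizer (S : Set G) ∧ IsConj (g * a * g⁻¹ * b) c := by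
    ext g
    simp only [Finset.mem_filter, Finset.mem_univ, true_and]
    refine ⟨fun hg => ⟨?_, hg⟩, fun hg => hg.2⟩
    have hp : (g * a * g⁻¹) ^ 3 = 1 := by rw [conj_pow, h.cube a ha]; group
    have hpq : (g * a * g⁻¹ * b) ^ 3 = 1 := by
      obtain ⟨k, hk⟩ := isConj_iff.1 hg
      have := h.cube c hc
      rwa [← hk, conj_pow, conj_eq_one_iff] at this
    rcases h.triple hp (h.cube b hb) hpq (fun e => ha1 (conj_eq_one_iff.1 e)) with e | ⟨e, e'⟩
    · refine h.mem_normalizer ha ha1 ?_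
      rw [← h.cent b hb hb1, mem_centralizer_singleton_iff]
      exact e
    · refine absurd ⟨(isConj_iff.2 ⟨g, rfl⟩).trans e, ?_⟩ hn
      exact (isConj_iff.2 ⟨g, by group⟩ : IsConj (a * a) (g * a * g⁻¹ * (g * a * g⁻¹))).trans (e'.trans hg)
  rw [this]
  field_simp
  ring

/-- Values on the subgroup are integers when its elements are real. -/
theorem TI.exists_int (h : TI S) (hreal : ∀ x ∈ S, IsConj x x⁻¹) (χ : IrrCharacter G) {x : G} (hx : x ∈ S) :
    ∃ z : ℤ, (χ : G → ℂ) x = z := by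
  obtain ⟨-, -, -, b, -, -, -, hb, -⟩ := ThreeKlein.six_values (Char.IsIrr.isCharacter χ.2) (x := x)
    (by rw [show (6 : ℕ) = 3 * 2 from rfl, pow_mul, h.cube x hx, one_pow]) (hreal x hx)
  exact ⟨b, hb⟩

open scoped Classical in
/-- Orthogonality of columns. -/
theorem TI.col (h : TI S) (hreal : ∀ x ∈ S, IsConj x x⁻¹) {x y : G} (hx : x ∈ S) (hy : y ∈ S) (hy1 : y ≠ 1)
    (vx vy : IrrCharacter G → ℤ) (ex : ∀ χ : IrrCharacter G, (χ : G → ℂ) x = vx χ)
    (ey : ∀ χ : IrrCharacter G, (χ : G → ℂ) y = vy χ) :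
    ∑ χ, vx χ * vy χ = if IsConj x y then 9 else 0 := by
  have := sum_mul_conj x y
  simp only [ex, ey, map_intCast, h.cent y hy hy1, h.card] at this
  split_ifs at this ⊢ with hc
  · exact_mod_cast this
  · exact_mod_cast this

open scoped Classical in
theorem TI.col_degree (h : TI S) {x : G} (hx : x ∈ S) (hx1 : x ≠ 1) (vx d : IrrCharacter G → ℤ)
    (ex : ∀ χ : IrrCharacter G, (χ : G → ℂ) x = vx χ) (ed : ∀ χ : IrrCharacter G, (χ : G → ℂ) 1 = d χ) :
    ∑ χ, vx χ * d χ = 0 := by
  have := sum_mul_conj x 1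
  rw [if_neg fun e => hx1 (isConj_one_left.1 e)] at this
  simp only [ex, ed, map_intCast] at this
  exact_mod_cast this

/-- The coordinates of the subgroup. -/
abbrev A2 : Type := Multiplicative (ZMod 3 × ZMod 3)

/-- Coordinates from two independent elements. -/
theorem TI.exists_coord (h : TI S) {x y : G} (hx : x ∈ S) (hx1 : x ≠ 1) (hy : y ∈ S) (hy0 : y ∉ zpowers x) :
    ∃ ψ : A2 →* G, Function.Injective ψ ∧ ψ.range = S ∧ ψ (Multiplicative.ofAdd (1, 0)) = x ∧
      ψ (Multiplicative.ofAdd (0, 1)) = y := by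
  have hy1 : y ≠ 1 := fun e => hy0 (e ▸ one_mem _)
  have hpow : ∀ {z : G}, z ∈ S → ∀ i j : ZMod 3, z ^ (i + j).val = z ^ i.val * z ^ j.val := by
    intro z hz i j
    rw [← pow_add, ZMod.val_add]
    conv_rhs => rw [← Nat.mod_add_div (i.val + j.val) 3, pow_add, pow_mul, h.cube z hz, one_pow, mul_one]
  let ψ : A2 →* G := MonoidHom.mk' (fun t => x ^ t.toAdd.1.val * y ^ t.toAdd.2.val) (by
    intro s t
    simp only [toAdd_mul, Prod.fst_add, Prod.snd_add, hpow hx, hpow hy]
    have : Commute (x ^ t.toAdd.1.val) (y ^ s.toAdd.2.val) :=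
      (Commute.pow_pow (h.comm x hx y hy) _ _)
    rw [mul_assoc, ← mul_assoc (x ^ t.toAdd.1.val), this.eq]
    group)
  have hψ : ∀ t, ψ t = x ^ t.toAdd.1.val * y ^ t.toAdd.2.val := fun t => rfl
  have hinj : Function.Injective ψ := by
    rw [injective_iff_map_eq_one]
    intro t ht
    rw [hψ] at ht
    have h2 : t.toAdd.2.val = 0 := by
      by_contra hne
      refine hy0 ?_
      have hm : y ^ t.toAdd.2.val ∈ zpowers x := by
        rw [← inv_eq_of_mul_eq_one_right ht]; exact inv_mem (pow_mem (mem_zpowers x) _)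
      have := ZMod.val_lt t.toAdd.2
      obtain e | e : t.toAdd.2.val = 1 ∨ t.toAdd.2.val = 2 := by omega
      · rwa [e, pow_one] at hm
      · have : y = (y ^ t.toAdd.2.val) ^ 2 := by
          rw [e, ← pow_mul, show 2 * 2 = 3 + 1 from rfl, pow_succ, h.cube y hy, one_mul]
        rw [this]; exact pow_mem hm _
    have h1 : t.toAdd.1.val = 0 := by
      rw [h2, pow_zero, mul_one] at ht
      by_contra hne
      have := ZMod.val_lt t.toAdd.1
      obtain e | e : t.toAdd.1.val = 1 ∨ t.toAdd.1.val = 2 := by omega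
      · rw [e, pow_one] at ht; exact hx1 ht
      · rw [e] at ht
        refine hx1 ?_
        calc x = x ^ 2 * x ^ 2 := by
              rw [← pow_add, show 2 + 2 = 3 + 1 from rfl, pow_succ, h.cube x hx, one_mul]
          _ = 1 := by rw [ht, one_mul]
    exact Multiplicative.toAdd.injective (Prod.ext ((ZMod.val_eq_zero _).1 h1) ((ZMod.val_eq_zero _).1 h2))
  refine ⟨ψ, hinj, ?_, ?_, ?_⟩
  · refine eq_of_le_of_card_ge ?_ ?_
    · rintro _ ⟨t, rfl⟩
      exact mul_mem (pow_mem hx _) (pow_mem hy _)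
    · rw [h.card, ← Nat.card_congr (MonoidHom.ofInjective hinj).toEquiv, Nat.card_eq_fintype_card]
      rfl
  · rw [hψ]
    show x ^ (1 : ZMod 3).val * y ^ (0 : ZMod 3).val = x
    simp [show (1 : ZMod 3).val = 1 from rfl]
  · rw [hψ]
    show x ^ (0 : ZMod 3).val * y ^ (1 : ZMod 3).val = y
    simp [show (1 : ZMod 3).val = 1 from rfl]

/-- The multiplicity of the trivial character along a homomorphism. -/
theorem dvd_sum {L : Type} [Group L] [Fintype L] (ψ : L →* G) (χ : IrrCharacter G) (v : L → ℤ)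
    (hv : ∀ l, (χ : G → ℂ) (ψ l) = v l) : (Fintype.card L : ℤ) ∣ ∑ l, v l := by
  obtain ⟨n, hn⟩ := Char.classInner_isCharacter_eq_natCast
    (Char.isCharacter_comp ψ (Char.IsIrr.isCharacter χ.2)) (Char.isCharacter_one (G := L))
  refine ⟨n, ?_⟩
  simp only [classInner, map_one, mul_one, hv, Nat.card_eq_fintype_card] at hn
  have hL : (Fintype.card L : ℂ) ≠ 0 := Nat.cast_ne_zero.2 Fintype.card_ne_zero
  field_simp at hn
  exact_mod_cast hn

/-- The congruence on a line. -/
theorem TI.three_dvd (h : TI S) (hreal : ∀ x ∈ S, IsConj x x⁻¹) {x : G} (hx : x ∈ S)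
    (χ : IrrCharacter G) {v d : ℤ} (hv : (χ : G → ℂ) x = v) (hd : (χ : G → ℂ) 1 = d) : 3 ∣ d + 2 * v := by
  let ψ : Multiplicative (ZMod 3) →* G := MonoidHom.mk' (fun t => x ^ t.toAdd.val) (fun s t => by
    show x ^ (s.toAdd + t.toAdd).val = _
    rw [← pow_add, ZMod.val_add]
    conv_rhs => rw [← Nat.mod_add_div (s.toAdd.val + t.toAdd.val) 3, pow_add, pow_mul, h.cube x hx,
      one_pow, mul_one])
  have hv' : ∀ t, (χ : G → ℂ) (ψ t) = ((if t = 1 then d else v : ℤ) : ℂ) := by
    intro t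
    by_cases ht : t = 1
    · rw [ht, map_one, if_pos rfl, hd]
    rw [if_neg ht]
    have := ZMod.val_lt t.toAdd
    have h0 : t.toAdd.val ≠ 0 := fun e => ht (Multiplicative.toAdd.injective ((ZMod.val_eq_zero _).1 e))
    show (χ : G → ℂ) (x ^ t.toAdd.val) = _
    obtain e | e : t.toAdd.val = 1 ∨ t.toAdd.val = 2 := by omega
    · rw [e, pow_one, hv]
    · rw [e, show x ^ 2 = x⁻¹ from eq_inv_of_mul_eq_one_left (by rw [← pow_succ, h.cube x hx]),
        ← Char.classFun_isConj (Char.isClassFunction_of_isIrr χ.2) (hreal x hx), hv]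
  have := dvd_sum ψ χ _ hv'
  rw [show Fintype.card (Multiplicative (ZMod 3)) = 3 from rfl] at this
  have e : (Finset.univ : Finset (Multiplicative (ZMod 3))) = {1, Multiplicative.ofAdd 1, Multiplicative.ofAdd 2} := by
    decide +kernel
  rw [e, Finset.sum_insert (by decide +kernel), Finset.sum_pair (by decide +kernel), if_pos rfl,
    if_neg (by decide +kernel), if_neg (by decide +kernel)] at this
  simpa [two_mul] using this

end Cfsg.Agent.ThreeTINine
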