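import Cfsg.Agent.ThreeTINine.Main

/-!
# The action of the normalizer
-/

set_option autoImplicit false

namespace Cfsg.Agent.ThreeTINine

open Cfsg Cfsg.Agent Subgroup

universe u

variable {G : Type u} [Group G] [Finite G] {S : Subgroup G}

omit [Finite G] in
/-- An element of the normalizer whose square centralizes inverts. -/
theorem TI.invert (h : TI S) {g : G} (hg : g ∈ normalizer (S : Set G)) (hgS : g ∉ S) (h2 : g * g ∈ S) :
    ∀ s ∈ S, g * s * g⁻¹ = s⁻¹ := by
  intro s hs
  have hs' : g * s * g⁻¹ ∈ S := (mem_normalizer_iff.1 hg s).1 hs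
  set t := s * (g * s * g⁻¹) with ht
  have htS : t ∈ S := mul_mem hs hs'
  by_contra hne
  refine hgS ?_
  rw [← h.cent t htS fun e => hne (eq_inv_of_mul_eq_one_right e), mem_centralizer_singleton_iff]
  have e1 : g * g * s = s * (g * g) := h.comm _ h2 _ hs
  have e2 : g * t * g⁻¹ = t := by
    rw [ht]
    calc g * (s * (g * s * g⁻¹)) * g⁻¹ = g * s * g⁻¹ * ((g * g) * s * (g * g)⁻¹) := by group
      _ = g * s * g⁻¹ * s := by rw [e1, mul_inv_cancel_right]
      _ = s * (g * s * g⁻¹) := h.comm _ hs' _ hs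
  calc g * t = g * t * g⁻¹ * g := by group
    _ = t * g := by rw [e2]

/-- The orbit of an element. -/
noncomputable def orbit (S : Subgroup G) (a : G) : Finset G := by
  classical
  letI := Fintype.ofFinite G
  exact (Finset.univ.filter fun g : G => g ∈ normalizer (S : Set G)).image fun g => g * a * g⁻¹

theorem mem_orbit {a b : G} : b ∈ orbit S a ↔ ∃ g ∈ normalizer (S : Set G), g * a * g⁻¹ = b := by
  classical
  simp [orbit]

theorem TI.card_normalizer (h : TI S) {a : G} (ha : a ∈ S) (ha1 : a ≠ 1) :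
    Nat.card (normalizer (S : Set G)) = 9 * (orbit S a).card := by
  classical
  let := Fintype.ofFinite G
  have e : (orbit S a) = (Finset.univ.filter fun g : G => g ∈ normalizer (S : Set G)).image
      (fun g => g * a * g⁻¹) := by
    ext b; simp [mem_orbit]
  rw [e, Nat.card_eq_fintype_card, Fintype.card_subtype]
  refine le_antisymm ?_ ?_
  · refine Finset.card_le_mul_card_image _ 9 fun b hb => ?_
    obtain ⟨g0, hg0, rfl⟩ := Finset.mem_image.1 hb
    refine (Finset.card_le_card_of_injOn (fun g => g0⁻¹ * g) (t := Finset.univ.filter fun g => g ∈ S)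
      (fun g hg => ?_) (fun x _ y _ e => mul_left_cancel e)).trans ?_
    · simp only [Finset.coe_filter, Set.mem_ofPred_eq, Finset.mem_filter, Finset.mem_univ, true_and] at hg ⊢
      rw [← h.cent a ha ha1, mem_centralizer_singleton_iff]
      calc g0⁻¹ * g * a = g0⁻¹ * (g * a * g⁻¹) * g := by group
        _ = a * (g0⁻¹ * g) := by rw [hg.2]; group
    · rw [← Fintype.card_subtype, ← Nat.card_eq_fintype_card]
      exact h.card.le
  · refine Finset.mul_card_image_le_card (f := fun g => g * a * g⁻¹) _ 9 fun b hb => ?_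
    obtain ⟨g0, hg0, rfl⟩ := Finset.mem_image.1 hb
    have hS : (Finset.univ.filter fun g => g ∈ S).card = 9 := by
      rw [← Fintype.card_subtype, ← Nat.card_eq_fintype_card]
      exact h.card
    rw [← hS]
    refine Finset.card_le_card_of_injOn (fun s => g0 * s) (fun s hs => ?_) (fun x _ y _ e => mul_left_cancel e)
    simp only [Finset.coe_filter, Set.mem_ofPred_eq, Finset.mem_filter, Finset.mem_univ, true_and] at hs hg0 ⊢
    refine ⟨mul_mem hg0 (le_normalizer hs), ?_⟩
    calc g0 * s * a * (g0 * s)⁻¹ = g0 * (s * a) * s⁻¹ * g0⁻¹ := by group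
      _ = g0 * a * g0⁻¹ := by rw [h.comm _ hs _ ha]; group

theorem TI.orbit_subset (h : TI S) {a : G} (ha : a ∈ S) (ha1 : a ≠ 1) {b : G} (hb : b ∈ orbit S a) :
    b ∈ S ∧ b ≠ 1 := by
  obtain ⟨g, hg, rfl⟩ := mem_orbit.1 hb
  exact ⟨(mem_normalizer_iff.1 hg a).1 ha, fun e => ha1 (conj_eq_one_iff.1 e)⟩

/-- Two fused classes force index at most four. -/
theorem TI.card_le (h : TI S) {a b : G} (ha : a ∈ S) (ha1 : a ≠ 1) (hb : b ∈ S) (hb1 : b ≠ 1)
    (hab : ∀ g ∈ normalizer (S : Set G), g * a * g⁻¹ ≠ b) :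
    Nat.card (normalizer (S : Set G)) ≤ 36 := by
  classical
  let := Fintype.ofFinite G
  have hdis : Disjoint (orbit S a) (orbit S b) := Finset.disjoint_left.2 fun c hca hcb => by
    obtain ⟨g, hg, rfl⟩ := mem_orbit.1 hca
    obtain ⟨k, hk, e⟩ := mem_orbit.1 hcb
    refine hab (k⁻¹ * g) (mul_mem (inv_mem hk) hg) ?_
    calc k⁻¹ * g * a * (k⁻¹ * g)⁻¹ = k⁻¹ * (g * a * g⁻¹) * k := by group
      _ = b := by rw [← e]; group
  have hsub : orbit S a ∪ orbit S b ⊆ (Finset.univ.filter fun g => g ∈ S).erase 1 := by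
    intro c hc
    rcases Finset.mem_union.1 hc with hc | hc
    · have := h.orbit_subset ha ha1 hc; simp [this.1, this.2]
    · have := h.orbit_subset hb hb1 hc; simp [this.1, this.2]
  have h1 := Finset.card_le_card hsub
  rw [Finset.card_union_of_disjoint hdis, Finset.card_erase_of_mem (by simp [one_mem]),
    ← Fintype.card_subtype, ← Nat.card_eq_fintype_card, h.card] at h1
  have h2 := h.card_normalizer ha ha1
  have h3 := h.card_normalizer hb hb1
  omega

/-- A normalizer of index four which is not inverting is cyclic over the subgroup. -/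
theorem TI.exists_four (h : TI S) (hcard : Nat.card (normalizer (S : Set G)) = 36)
    (hnk : ¬ ∀ g ∈ normalizer (S : Set G), g * g ∈ S) :
    ∃ w ∈ normalizer (S : Set G), ∃ x ∈ S, x ≠ 1 ∧ w * x * w⁻¹ ∉ zpowers x ∧
      w * (w * x * w⁻¹) * w⁻¹ = x⁻¹ ∧
      ∀ g ∈ normalizer (S : Set G), ∃ i : Fin 4, (w ^ (i : ℕ))⁻¹ * g ∈ S := by
  classical
  push Not at hnk
  obtain ⟨w, hw, hw2⟩ := hnk
  set N := normalizer (S : Set G)
  have hn : (S.subgroupOf N).Normal := Subgroup.normal_subgroupOf_iff_le_normalizer le_normalizer |>.2 le_rfl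
  have hidx : (S.subgroupOf N).index = 4 := by
    have h1 := (S.subgroupOf N).card_mul_index
    rw [Nat.card_congr (subgroupOfEquivOfLe (le_normalizer : S ≤ N)).toEquiv, h.card, hcard] at h1
    omega
  have hw4 : w ^ 4 ∈ S := by
    have := Subgroup.pow_index_mem (S.subgroupOf N) ⟨w, hw⟩
    rw [hidx] at this
    simpa [mem_subgroupOf] using this
  have hwS : w ∉ S := fun e => hw2 (mul_mem e e)
  have hinv := h.invert (mul_mem hw hw) hw2 (by
    rw [← pow_two w, ← pow_add]; exact hw4)
  obtain ⟨x, hx, hx1⟩ : ∃ x ∈ S, x ≠ 1 := by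
    refine (S.bot_or_exists_ne_one).resolve_left fun e => ?_
    have := h.card
    rw [e, card_bot] at this
    omega
  have hx' : x⁻¹ ≠ x := fun e => by
    have h2 : x * x = 1 := by
      calc x * x = x⁻¹ * x := by rw [e]
        _ = 1 := inv_mul_cancel x
    have h3 := h.cube x hx
    rw [pow_three, h2, mul_one] at h3
    exact hx1 h3
  have hyy : w * (w * x * w⁻¹) * w⁻¹ = x⁻¹ := by rw [← hinv x hx]; group
  refine ⟨w, hw, x, hx, hx1, fun hm => ?_, hyy, ?_⟩
  · obtain ⟨k, hk⟩ := mem_zpowers_iff.1 hm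
    have hx3 : x ^ (3 : ℤ) = 1 := by exact_mod_cast h.cube x hx
    rw [← Int.emod_add_mul_ediv k 3, zpow_add, zpow_mul, hx3, one_zpow, mul_one] at hk
    rcases (show k % 3 = 0 ∨ k % 3 = 1 ∨ k % 3 = 2 by omega) with e | e | e <;> rw [e] at hk
    · rw [zpow_zero] at hk
      exact hx1 (conj_eq_one_iff.1 hk.symm)
    · rw [zpow_one] at hk
      refine hwS ?_
      rw [← h.cent x hx hx1, mem_centralizer_singleton_iff]
      exact mul_inv_eq_iff_eq_mul.1 hk.symm
    · have h2 : x ^ (2 : ℤ) = x⁻¹ := by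
        rw [zpow_two]
        exact eq_inv_of_mul_eq_one_left (by rw [mul_assoc, ← pow_three, h.cube x hx])
      rw [h2] at hk
      rw [← hk] at hyy
      have : w * x⁻¹ * w⁻¹ = (w * x * w⁻¹)⁻¹ := by group
      rw [this, ← hk, inv_inv] at hyy
      exact hx' hyy.symm
  · let F : Fin 4 × S → N := fun p => ⟨w ^ (p.1 : ℕ) * (p.2 : G), mul_mem (pow_mem hw _) (le_normalizer p.2.2)⟩
    have hF : Function.Injective F := by
      rintro ⟨i, s⟩ ⟨j, t⟩ e
      have e' : w ^ (i : ℕ) * (s : G) = w ^ (j : ℕ) * (t : G) := congrArg Subtype.val e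
      have key : ∀ i j : Fin 4, ∀ s t : S, (i : ℕ) < (j : ℕ) → w ^ (i : ℕ) * (s : G) ≠ w ^ (j : ℕ) * (t : G) := by
        intro i j s t hij e
        have hm : w ^ ((j : ℕ) - (i : ℕ)) ∈ S := by
          have : w ^ ((j : ℕ) - (i : ℕ)) = (s : G) * (t : G)⁻¹ := by
            rw [eq_mul_inv_iff_mul_eq]
            apply mul_left_cancel (a := w ^ (i : ℕ))
            rw [← mul_assoc, ← pow_add, Nat.add_sub_cancel' hij.le]
            exact e.symm
          rw [this]
          exact mul_mem s.2 (inv_mem t.2)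
        have := i.2
        have := j.2
        rcases (show (j : ℕ) - i = 1 ∨ (j : ℕ) - i = 2 ∨ (j : ℕ) - i = 3 by omega) with e | e | e <;>
          rw [e] at hm
        · exact hwS (by simpa using hm)
        · exact hw2 (by rwa [sq] at hm)
        · refine hwS ?_
          have := mul_mem (inv_mem hm) hw4
          rwa [pow_succ w 3, ← mul_assoc, inv_mul_cancel, one_mul] at this
      rcases lt_trichotomy (i : ℕ) (j : ℕ) with hl | hl | hl
      · exact absurd e' (key i j s t hl)
      · obtain rfl : i = j := Fin.ext hl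
        exact Prod.ext rfl (Subtype.ext (mul_left_cancel e'))
      · exact absurd e'.symm (key j i t s hl)
    have hbij := hF.bijective_of_nat_card_le (by
      rw [Nat.card_prod, Nat.card_fin, h.card, hcard])
    intro g hg
    obtain ⟨⟨i, s⟩, hs⟩ := hbij.2 ⟨g, hg⟩
    refine ⟨i, ?_⟩
    have e : w ^ (i : ℕ) * (s : G) = g := congrArg Subtype.val hs
    rw [← e, inv_mul_cancel_left]
    exact s.2

/-- Inverting elements lie in one coset. -/
theorem TI.card_le_eighteen (h : TI S) (hk : ∀ g ∈ normalizer (S : Set G), g * g ∈ S) :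
    Nat.card (normalizer (S : Set G)) ≤ 18 := by
  classical
  set N := normalizer (S : Set G)
  by_cases hall : ∀ g ∈ N, g ∈ S
  · have := card_le_of_le (show N ≤ S from hall)
    rw [h.card] at this
    omega
  push Not at hall
  obtain ⟨u, hu, huS⟩ := hall
  have hui := h.invert hu huS (hk u hu)
  obtain ⟨x, hx, hx1⟩ : ∃ x ∈ S, x ≠ 1 := by
    refine (S.bot_or_exists_ne_one).resolve_left fun e => ?_
    have := h.card
    rw [e, card_bot] at this
    omega
  have cover : ∀ g ∈ N, g ∈ S ∨ u⁻¹ * g ∈ S := fun g hg => by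
    by_cases hgS : g ∈ S
    · exact Or.inl hgS
    refine Or.inr ?_
    have hgi := h.invert hg hgS (hk g hg) x hx
    rw [← h.cent x hx hx1, mem_centralizer_singleton_iff]
    have hu' := hui x hx
    calc u⁻¹ * g * x = u⁻¹ * (g * x * g⁻¹) * g := by group
      _ = x * (u⁻¹ * g) := by rw [hgi, ← hu']; group
  let F : N → Bool × S := fun g =>
    if hgS : (g : G) ∈ S then (true, ⟨g, hgS⟩) else (false, ⟨u⁻¹ * g, (cover g g.2).resolve_left hgS⟩)
  have hF : Function.Injective F := by
    intro a b e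
    simp only [F] at e
    split_ifs at e with h1 h2 h2 <;> simp only [Prod.mk.injEq, Subtype.mk.injEq, Bool.true_eq_false,
      Bool.false_eq_true, false_and, true_and] at e
    · exact Subtype.ext e
    · exact Subtype.ext (mul_left_cancel e)
  have := Nat.card_le_card_of_injective F hF
  rw [Nat.card_prod, Nat.card_eq_fintype_card (α := Bool), Fintype.card_bool, h.card] at this
  omega

end Cfsg.Agent.ThreeTINine
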