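import Cfsg.Agent.ThreeTINine.Shape
import Cfsg.Agent.Coprime.Generation
import Cfsg.Agent.Char.Linear
import Mathlib.GroupTheory.Transfer
import Mathlib.GroupTheory.Abelianization.Defs

/-!
# Simplicity when the normalizer is cyclic of order four over the subgroup
-/

set_option autoImplicit false

namespace Cfsg.Agent.ThreeTINine

open Cfsg Cfsg.Agent Subgroup

universe u

variable {G : Type u} [Group G] [Finite G] {S : Subgroup G}

theorem TI.not_isCyclic (h : TI S) : ¬ IsCyclic S := fun hc => by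
  obtain ⟨g, hg⟩ := hc.exists_ofOrder_eq_natCard (α := S)
  rw [h.card] at hg
  have := Nat.le_of_dvd (by norm_num)
    (orderOf_dvd_of_pow_eq_one (Subtype.ext (h.cube g g.2) : g ^ 3 = 1))
  omega

theorem TI.isMulCommutative (h : TI S) : IsMulCommutative S :=
  ⟨⟨fun a b => Subtype.ext (h.comm a a.2 b b.2)⟩⟩

/-- A normal subgroup meeting the subgroup trivially is trivial. -/
theorem TI.eq_bot_of_disjoint (h : TI S) {R : Subgroup G} [R.Normal] (hd : ∀ s ∈ S, s ∈ R → s = 1) :
    R = ⊥ := by
  have h3 : ¬ 3 ∣ Nat.card R := fun hdvd => by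
    haveI : Fact (Nat.Prime 3) := ⟨Nat.prime_three⟩
    obtain ⟨r, hr⟩ := exists_prime_orderOf_dvd_card' 3 hdvd
    have hr3 : (r : G) ^ 3 = 1 := by
      rw [← Subgroup.coe_pow, ← hr, pow_orderOf_eq_one]; rfl
    obtain ⟨k, hk⟩ := h.cover r hr3
    have := hd _ hk (‹R.Normal›.conj_mem r r.2 k)
    rw [conj_eq_one_iff] at this
    rw [show r = 1 from Subtype.ext this, orderOf_one] at hr
    omega
  haveI := h.isMulCommutative
  rw [← Coprime.iSup_centralizer_eq (A := S) (K := R) h.not_isCyclic (le_normalizer_of_normal.trans' le_top)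
    (by rw [h.card, show (9 : ℕ) = 3 ^ 2 from rfl];
        exact Nat.Coprime.pow_left 2 ((Nat.prime_three.coprime_iff_not_dvd).2 h3))]
  refine eq_bot_iff.2 (iSup₂_le fun a ha y hy => ?_)
  refine mem_bot.2 (hd y ?_ hy.1)
  rw [← h.cent a ha.1 ha.2]
  exact hy.2

/-- A perfect group has no such subgroup with an inverting normalizer. -/
theorem TI.false_of_perfect (h : TI S) (P : Sylow 3 G) (hP : S = P) (hperf : commutator G = ⊤)
    (hk : ∀ g ∈ normalizer (S : Set G), g * g ∈ S) : False := by
  haveI : Fact (Nat.Prime 3) := ⟨Nat.prime_three⟩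
  by_cases hall : ∀ g ∈ normalizer (S : Set G), g ∈ S
  · have hN : normalizer ((P : Subgroup G) : Set G) ≤ centralizer ((P : Subgroup G) : Set G) := by
      rw [← hP]
      intro g hg s hs
      exact h.comm s hs g (hall g hg)
    have hc := MonoidHom.ker_transferSylow_isComplement' P hN
    set f := MonoidHom.transferSylow P hN
    have hle : commutator G ≤ f.ker := by
      rw [commutator_def, Subgroup.commutator_le]
      intro a _ b _
      rw [MonoidHom.mem_ker, map_commutatorElement, commutatorElement_def]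
      have hcm : f a * f b = f b * f a :=
        Subtype.ext (h.comm _ (hP ▸ (f a).2) _ (hP ▸ (f b).2))
      rw [hcm]; group
    rw [hperf, top_le_iff] at hle
    rw [hle] at hc
    have := isComplement'_top_left.1 hc
    have hc9 := h.card
    rw [hP, this, card_bot] at hc9
    omega
  · push Not at hall
    obtain ⟨u, hu, huS⟩ := hall
    obtain ⟨χ, hχ, hχ1⟩ := h.two_case (h.invert hu huS (hk u hu)) fun g hg s hs => by
      by_cases hgS : g ∈ S
      · exact Or.inl (by rw [h.comm g hgS s hs, mul_inv_cancel_right])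
      · exact Or.inr (h.invert hg hgS (hk g hg) s hs)
    obtain ⟨f, hf⟩ := Char.IsChar.exists_hom (Char.IsIrr.isCharacter χ.2) hχ1
    refine hχ (funext fun g => ?_)
    have hg : g ∈ f.ker := Abelianization.commutator_subset_ker f (hperf ▸ mem_top g)
    rw [hf]
    simp [show f g = 1 from hg]

/-- With a cyclic complement of order four, the group is simple unless the subgroup is normal. -/
theorem TI.simple_of_four (h : TI S) (P : Sylow 3 G) (hP : S = P) {w x : G}
    (hw : w ∈ normalizer (S : Set G)) (hx : x ∈ S) (hx1 : x ≠ 1)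
    (hy : w * (w * x * w⁻¹) * w⁻¹ = x⁻¹) (hcard : Nat.card (normalizer (S : Set G)) = 36)
    (hne : normalizer (S : Set G) ≠ ⊤) : IsSimpleGroup G := by
  haveI : Fact (Nat.Prime 3) := ⟨Nat.prime_three⟩
  have hself : ∀ {t : G}, t ∈ S → t⁻¹ = t → t = 1 := fun {t} ht e => by
    have h2 : t * t = 1 := by
      calc t * t = t⁻¹ * t := by rw [e]
        _ = 1 := inv_mul_cancel t
    have h3 := h.cube t ht
    rwa [pow_three, h2, mul_one] at h3
  have hww : w * w ∉ S := fun e => hx1 (hself hx (by
    rw [← hy]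
    calc w * (w * x * w⁻¹) * w⁻¹ = (w * w) * x * (w * w)⁻¹ := by group
      _ = x := by rw [h.comm _ e _ hx, mul_inv_cancel_right]))
  have hw4 : w * w * (w * w) ∈ S := by
    rw [← h.cent x hx hx1, mem_centralizer_singleton_iff]
    have e1 : (w * w) * x * (w * w)⁻¹ = x⁻¹ := by rw [← hy]; group
    have e2 : (w * w) * x⁻¹ * (w * w)⁻¹ = x := by
      rw [← conj_inv, e1, inv_inv]
    calc w * w * (w * w) * x = (w * w) * ((w * w) * x * (w * w)⁻¹) * (w * w)⁻¹ * (w * w * (w * w)) := by group
      _ = x * (w * w * (w * w)) := by rw [e1, e2]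
  have hinv := h.invert (mul_mem hw hw) hww hw4
  have hSne : ¬ S.Normal := fun hn => hne (normalizer_eq_top_iff.2 hn)
  -- a normal subgroup meeting `S` contains it
  have hcontain : ∀ R : Subgroup G, R.Normal → R ≠ ⊥ → S ≤ R := by
    intro R hR hRne
    obtain ⟨t, ht, htR, ht1⟩ : ∃ t ∈ S, t ∈ R ∧ t ≠ 1 := by
      by_contra hcon
      push Not at hcon
      exact hRne (h.eq_bot_of_disjoint hcon)
    have ht' : w * t * w⁻¹ ∈ S := (mem_normalizer_iff.1 hw t).1 ht
    have hsub : zpowers t ⊔ zpowers (w * t * w⁻¹) ≤ S ⊓ R :=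
      sup_le (zpowers_le.2 ⟨ht, htR⟩) (zpowers_le.2 ⟨ht', hR.conj_mem t htR w⟩)
    have hnot : w * t * w⁻¹ ∉ zpowers t := fun hm => by
      obtain ⟨k, hk⟩ := mem_zpowers_iff.1 hm
      have hfix : w * w * t * (w * w)⁻¹ = t := by
        have ht3 : t ^ (3 : ℤ) = 1 := by exact_mod_cast h.cube t ht
        rw [← Int.emod_add_mul_ediv k 3, zpow_add, zpow_mul, ht3, one_zpow, mul_one] at hk
        rcases (show k % 3 = 0 ∨ k % 3 = 1 ∨ k % 3 = 2 by omega) with e | e | e <;> rw [e] at hk
        · rw [zpow_zero] at hk; exact absurd (conj_eq_one_iff.1 hk.symm) ht1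
        · rw [zpow_one] at hk
          calc w * w * t * (w * w)⁻¹ = w * (w * t * w⁻¹) * w⁻¹ := by group
            _ = t := by rw [← hk, ← hk]
        · have h2 : t ^ (2 : ℤ) = t⁻¹ := by
            rw [zpow_two]
            exact eq_inv_of_mul_eq_one_left (by rw [mul_assoc, ← pow_three, h.cube t ht])
          rw [h2] at hk
          calc w * w * t * (w * w)⁻¹ = w * (w * t * w⁻¹) * w⁻¹ := by group
            _ = w * t⁻¹ * w⁻¹ := by rw [hk]
            _ = (w * t * w⁻¹)⁻¹ := by group
            _ = t := by rw [← hk, inv_inv]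
      rw [hinv t ht] at hfix
      exact ht1 (hself ht hfix)
    have hlt : 3 < Nat.card (zpowers t ⊔ zpowers (w * t * w⁻¹) : Subgroup G) := by
      by_contra hle
      push Not at hle
      refine hnot ((eq_of_le_of_card_ge (le_sup_left : zpowers t ≤ zpowers t ⊔ zpowers (w * t * w⁻¹)) ?_) ▸
        mem_sup_right (mem_zpowers _))
      rwa [Nat.card_zpowers, orderOf_eq_prime (h.cube t ht) ht1]
    have h9 := card_dvd_of_le (hsub.trans inf_le_left)
    rw [h.card] at h9
    obtain ⟨i, hi, e⟩ := (Nat.dvd_prime_pow Nat.prime_three).1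
      (show Nat.card (zpowers t ⊔ zpowers (w * t * w⁻¹) : Subgroup G) ∣ 3 ^ 2 from h9)
    interval_cases i <;> simp only [e] at hlt <;> norm_num at hlt
    intro s hs
    have := eq_of_le_of_card_ge (hsub.trans inf_le_left) (by rw [h.card, e]; norm_num)
    exact (hsub (this.symm ▸ hs)).2
  haveI : Nontrivial G := ⟨⟨x, 1, hx1⟩⟩
  refine ⟨fun R hR => or_iff_not_imp_left.2 fun hRne => ?_⟩
  -- a minimal normal subgroup
  obtain ⟨R0, ⟨hR0, hR0ne, hR0R⟩, hmin⟩ := WellFounded.has_min (wellFounded_lt (α := Subgroup G))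
    {L : Subgroup G | L.Normal ∧ L ≠ ⊥ ∧ L ≤ R} ⟨R, hR, hRne, le_rfl⟩
  rw [eq_top_iff]
  refine le_trans ?_ hR0R
  rw [top_le_iff]
  by_contra hR0top
  have hS0 := hcontain R0 hR0 hR0ne
  haveI := hR0
  have hperf : ⁅R0, R0⁆ = R0 := by
    have hle : ⁅R0, R0⁆ ≤ R0 := commutator_le_self R0
    rcases eq_or_lt_of_le hle with e | e
    · exact e
    exfalso
    have hb : ⁅R0, R0⁆ = ⊥ := by
      by_contra hb
      exact hmin _ ⟨inferInstance, hb, hle.trans hR0R⟩ e
    rw [commutator_eq_bot_iff_le_centralizer] at hb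
    have hRS : R0 = S := le_antisymm (fun r hr => by
      rw [← h.cent x hx hx1, mem_centralizer_singleton_iff]
      exact ((hb hr) x (hS0 hx)).symm) hS0
    exact hSne (hRS ▸ hR0)
  let P0 : Sylow 3 R0 := P.subtype (hP ▸ hS0)
  have hP0 : S.subgroupOf R0 = P0 := by rw [hP]; rfl
  have hTI : TI (S.subgroupOf R0) := by
    refine TI.of_sylow P0 hP0 (fun a ha b hb => Subtype.ext (h.comm a ha b hb))
      (fun a ha => Subtype.ext (h.cube a ha)) ?_ fun a ha ha1 => ?_
    · rw [Nat.card_congr (subgroupOfEquivOfLe hS0).toEquiv, h.card]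
    · ext b
      rw [mem_centralizer_singleton_iff, mem_subgroupOf, ← h.cent (a : G) ha (fun e => ha1 (Subtype.ext e)),
        mem_centralizer_singleton_iff]
      exact Subtype.ext_iff
  refine hTI.false_of_perfect P0 hP0 ?_ fun g hg => ?_
  · apply Subgroup.map_injective R0.subtype_injective
    rw [Subgroup.map_subtype_commutator, hperf, ← MonoidHom.range_eq_map, range_subtype]
  · have hgN : (g : G) ∈ normalizer (S : Set G) := mem_normalizer_fintype fun s hs =>
      mem_subgroupOf.1 ((mem_normalizer_iff.1 hg ⟨s, hS0 hs⟩).1 (mem_subgroupOf.2 hs))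
    set N := normalizer (S : Set G)
    set L := N ⊓ R0
    have hSL : S ≤ L := le_inf le_normalizer hS0
    have hgL : (g : G) ∈ L := ⟨hgN, g.2⟩
    have hLN : L < N := by
      refine lt_of_le_of_ne inf_le_left fun e => hR0top ?_
      have hf := Sylow.normalizer_sup_eq_top P0
      have hmap : (P0 : Subgroup R0).map R0.subtype = S := by
        rw [← hP0, subgroupOf_map_subtype, inf_eq_left.2 hS0]
      rw [hmap] at hf
      have hN : N ≤ R0 := e ▸ inf_le_right
      rwa [sup_eq_right.2 hN] at hf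
    have hn : (S.subgroupOf L).Normal :=
      (normal_subgroupOf_iff_le_normalizer hSL).2 inf_le_left
    have hidx : (S.subgroupOf L).index ≤ 2 := by
      have h1 := (S.subgroupOf L).card_mul_index
      rw [Nat.card_congr (subgroupOfEquivOfLe hSL).toEquiv, h.card] at h1
      obtain ⟨c, hc⟩ := card_dvd_of_le hLN.le
      have hlt : Nat.card L < Nat.card N := by
        refine lt_of_le_of_ne (card_le_of_le hLN.le) fun e => hLN.ne (eq_of_le_of_card_ge hLN.le e.ge)
      rw [hcard] at hc hlt
      by_contra h3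
      have hle : (S.subgroupOf L).index = 3 := by omega
      rw [hle] at h1
      rw [← h1] at hc
      omega
    rw [mem_subgroupOf]
    have hm := Subgroup.pow_index_mem (S.subgroupOf L) ⟨g, hgL⟩
    have hne0 : (S.subgroupOf L).index ≠ 0 := index_ne_zero_of_finite
    rcases (show (S.subgroupOf L).index = 1 ∨ (S.subgroupOf L).index = 2 by omega) with e | e <;>
      rw [e] at hm <;> simp [mem_subgroupOf] at hm
    · exact mul_mem hm hm
    · simpa [sq] using hm

end Cfsg.Agent.ThreeTINine
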