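import Mathlib.GroupTheory.SpecificGroups.Alternating
import Mathlib.GroupTheory.Subgroup.Centralizer
import Mathlib.Algebra.Group.Subgroup.Basic
import Mathlib.GroupTheory.Index
import Mathlib.GroupTheory.Perm.Cycle.Type

/-!
# An extension of the alternating group of degree six fixing the two classes of elements of order three
-/

set_option autoImplicit false

namespace Cfsg.Agent.ThreeTINine.SixModel

open Equiv

universe u

/-- The alternating group of degree six. -/
abbrev Alt : Type := alternatingGroup (Fin 6)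

/-- Being a three-cycle. -/
def tc (a : Alt) : Bool :=
  decide ((Finset.univ.filter fun i => (a : Perm (Fin 6)) i ≠ i).card = 3)

/-- `(0 1 2)` -/
def cu : Alt := ⟨swap 0 1 * swap 1 2, Perm.mem_alternatingGroup.2 (by decide +kernel)⟩
/-- `(0 3 4)` -/
def cv : Alt := ⟨swap 0 3 * swap 3 4, Perm.mem_alternatingGroup.2 (by decide +kernel)⟩

theorem cu_cv : tc cu = true ∧ tc cv = true ∧ (cu * cv) ^ 5 = 1 ∧ cu * cv ≠ 1 ∧
    (cu : Perm (Fin 6)) 5 = 5 ∧ (cv : Perm (Fin 6)) 5 = 5 := by
  refine ⟨?_, ?_, ?_, ?_, ?_, ?_⟩ <;> decide +kernel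

theorem tc_cube : ∀ a : Alt, tc a = true → a ^ 3 = 1 := by decide +kernel

theorem word : ∀ a : Alt, (a : Perm (Fin 6)) 5 = 5 → ∃ i j k l m n : Fin 3,
    a = cu ^ (i : ℕ) * cv ^ (j : ℕ) * cu ^ (k : ℕ) * cv ^ (l : ℕ) * cu ^ (m : ℕ) * cv ^ (n : ℕ) := by
  decide +kernel

theorem common : ∀ x : Alt, tc x = true → ∀ y : Alt, tc y = true → (x * y) ^ 5 = 1 → x * y ≠ 1 →
    ∃ j, (x : Perm (Fin 6)) j = j ∧ (y : Perm (Fin 6)) j = j := by decide +kernel

theorem moves : ∀ i : Fin 6, ∃ k : Alt, (k : Perm (Fin 6)) 5 = i := by decide +kernel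

theorem separate : ∀ i j : Fin 6, (∀ a : Alt, (a : Perm (Fin 6)) i = i → (a : Perm (Fin 6)) j = j) →
    i = j := by decide +kernel

theorem tc_conj (k a : Alt) : tc (k * a * k⁻¹) = tc a := by
  have : (Finset.univ.filter fun i => (a : Perm (Fin 6)) i ≠ i).map (k : Perm (Fin 6)).toEmbedding =
      Finset.univ.filter fun i => ((k * a * k⁻¹ : Alt) : Perm (Fin 6)) i ≠ i := by
    ext i
    simp only [Finset.mem_map_equiv, Finset.mem_filter, Finset.mem_univ, true_and]
    rw [Subgroup.coe_mul, Subgroup.coe_mul, Subgroup.coe_inv]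
    simp only [Perm.mul_apply, ne_eq]
    exact not_congr (Equiv.eq_symm_apply (k : Perm (Fin 6)))
  simp only [tc]
  rw [← this, Finset.card_map]

/-- An endomorphism preserving three-cycles sends a point stabilizer into one. -/
theorem exists_point (β : Alt →* Alt) (hinj : Function.Injective β) (hβ : ∀ a, tc a = true → tc (β a) = true) :
    ∃ j, ∀ a : Alt, (a : Perm (Fin 6)) 5 = 5 → ((β a : Alt) : Perm (Fin 6)) j = j := by
  obtain ⟨tu, tv, h5, h1, u5, v5⟩ := cu_cv
  obtain ⟨j, hju, hjv⟩ := common (β cu) (hβ _ tu) (β cv) (hβ _ tv) (by rw [← map_mul, ← map_pow, h5, map_one])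
    (fun e => h1 (hinj (by rw [map_mul, e, map_one])))
  refine ⟨j, fun a ha => ?_⟩
  let H : Subgroup Alt := (MulAction.stabilizer (Perm (Fin 6)) j).comap ((alternatingGroup (Fin 6)).subtype.comp β)
  have hH : ∀ b : Alt, b ∈ H ↔ ((β b : Alt) : Perm (Fin 6)) j = j := fun b => Iff.rfl
  obtain ⟨i1, i2, i3, i4, i5, i6, rfl⟩ := word a ha
  refine (hH _).1 ?_
  have hu : cu ∈ H := (hH _).2 hju
  have hv : cv ∈ H := (hH _).2 hjv
  exact mul_mem (mul_mem (mul_mem (mul_mem (mul_mem (pow_mem hu _) (pow_mem hv _)) (pow_mem hu _))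
    (pow_mem hv _)) (pow_mem hu _)) (pow_mem hv _)

/-- The extension is the symmetric group. -/
theorem nonempty_perm_six {G : Type u} [Group G] [Finite G] (K : Subgroup G) [K.Normal] (hidx : K.index = 2)
    (e : K ≃* Alt) (hC : Subgroup.centralizer (K : Set G) = ⊥)
    (hfus : ∀ (g : G), ∀ x ∈ K, x ^ 3 = 1 → ∃ k ∈ K, k * x * k⁻¹ = g * x * g⁻¹) :
    Nonempty (G ≃* Perm (Fin 6)) := by
  classical
  let α : G →* MulAut Alt := (MulAut.congr e).toMonoidHom.comp MulAut.conjNormal
  have hα : ∀ g a, α g a = e (MulAut.conjNormal g (e.symm a)) := fun g a => rfl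
  have htc : ∀ g a, tc a = true → tc (α g a) = true := by
    intro g a ha
    have h3 : ((e.symm a : K) : G) ^ 3 = 1 := by
      rw [← Subgroup.coe_pow, ← map_pow, tc_cube a ha, map_one]; rfl
    obtain ⟨k, hk, hk'⟩ := hfus g _ (e.symm a).2 h3
    have : MulAut.conjNormal g (e.symm a) = (⟨k, hk⟩ : K) * e.symm a * (⟨k, hk⟩ : K)⁻¹ := by
      refine Subtype.ext ?_
      rw [MulAut.conjNormal_apply]
      exact hk'.symm
    rw [hα, this, map_mul, map_mul, map_inv, e.apply_symm_apply, tc_conj]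
    exact ha
  have hex : ∀ g i, ∃ j, ∀ a : Alt, (a : Perm (Fin 6)) i = i → ((α g a : Alt) : Perm (Fin 6)) j = j := by
    intro g i
    obtain ⟨k, hk⟩ := moves i
    obtain ⟨j, hj⟩ := exists_point ((α g).toMonoidHom.comp (MulAut.conj k).toMonoidHom)
      ((α g).injective.comp (MulAut.conj k).injective) fun a ha => htc g _ (by
        show tc (k * a * k⁻¹) = true
        rw [tc_conj]; exact ha)
    refine ⟨j, fun a ha => ?_⟩
    have := hj (k⁻¹ * a * k) (by
      rw [Subgroup.coe_mul, Subgroup.coe_mul, Subgroup.coe_inv, Perm.mul_apply, Perm.mul_apply, hk, ha, ← hk]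
      exact (k : Perm (Fin 6)).symm_apply_apply 5)
    change ((α g (k * (k⁻¹ * a * k) * k⁻¹) : Alt) : Perm (Fin 6)) j = j at this
    rwa [show k * (k⁻¹ * a * k) * k⁻¹ = a by group] at this
  choose σ hσ using hex
  have hiff : ∀ g i (a : Alt), (a : Perm (Fin 6)) i = i ↔ ((α g a : Alt) : Perm (Fin 6)) (σ g i) = σ g i := by
    intro g i a
    refine ⟨hσ g i a, fun h => ?_⟩
    have h1 := hσ g⁻¹ (σ g i) _ h
    rw [← MulAut.mul_apply, ← map_mul, inv_mul_cancel, map_one, MulAut.one_apply] at h1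
    have : σ g⁻¹ (σ g i) = i := (separate i _ fun b hb => by
      have h2 := hσ g⁻¹ (σ g i) _ (hσ g i b hb)
      rwa [← MulAut.mul_apply, ← map_mul, inv_mul_cancel, map_one, MulAut.one_apply] at h2).symm
    rwa [this] at h1
  have huniq : ∀ g i j, (∀ a : Alt, (a : Perm (Fin 6)) i = i → ((α g a : Alt) : Perm (Fin 6)) j = j) →
      σ g i = j := by
    intro g i j hj
    refine separate _ _ fun b hb => ?_
    have hb' : b = α g ((α g).symm b) := ((α g).apply_symm_apply b).symm
    rw [hb'] at hb ⊢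
    exact hj _ ((hiff g i _).2 hb)
  have hmul : ∀ g h i, σ (g * h) i = σ g (σ h i) := fun g h i => huniq _ _ _ fun a ha => by
    rw [map_mul, MulAut.mul_apply]
    exact hσ g _ _ (hσ h i a ha)
  have hone : ∀ i, σ 1 i = i := fun i => huniq _ _ _ fun a ha => by rwa [map_one, MulAut.one_apply]
  let Φ : G →* Perm (Fin 6) :=
    MonoidHom.mk' (fun g => ⟨σ g, σ g⁻¹, fun i => by rw [← hmul, inv_mul_cancel, hone],
      fun i => by rw [← hmul, mul_inv_cancel, hone]⟩) fun g h => Equiv.ext (hmul g h)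
  have hΦK : ∀ k : K, Φ k = (e k : Perm (Fin 6)) := fun k => Equiv.ext fun i => huniq _ _ _ fun a ha => by
    have : MulAut.conjNormal (k : G) (e.symm a) = k * e.symm a * k⁻¹ := by
      refine Subtype.ext ?_
      rw [MulAut.conjNormal_apply]
      rfl
    rw [hα, this, map_mul, map_mul, map_inv, e.apply_symm_apply, Subgroup.coe_mul, Subgroup.coe_mul,
      Subgroup.coe_inv, Perm.mul_apply, Perm.mul_apply]
    show (e k : Perm (Fin 6)) ((a : Perm (Fin 6)) (((e k : Perm (Fin 6))).symm ((e k : Perm (Fin 6)) i))) = _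
    rw [Equiv.symm_apply_apply, ha]
  have hinj : Function.Injective Φ := by
    rw [injective_iff_map_eq_one]
    intro g hg
    have hcen : g ∈ Subgroup.centralizer (K : Set G) := by
      rw [Subgroup.mem_centralizer_iff]
      intro k hk
      have h1 := hΦK ⟨g * k * g⁻¹, ‹K.Normal›.conj_mem k hk g⟩
      rw [map_mul, map_mul, map_inv, hg, one_mul, inv_one, mul_one] at h1
      have h2 := h1.symm.trans (hΦK ⟨k, hk⟩)
      have h3 : g * k * g⁻¹ = k := congrArg Subtype.val (e.injective (Subtype.ext h2))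
      exact (mul_inv_eq_iff_eq_mul.1 h3).symm
    rwa [hC, Subgroup.mem_bot] at hcen
  refine ⟨MulEquiv.ofBijective Φ (hinj.bijective_of_nat_card_le ?_)⟩
  have h1 := K.card_mul_index
  rw [hidx, Nat.card_congr e.toEquiv] at h1
  have h2 := two_mul_nat_card_alternatingGroup (α := Fin 6)
  rw [← h1]
  unfold Alt at *
  omega

end Cfsg.Agent.ThreeTINine.SixModel
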