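import Cfsg.Agent.ThreeWreath.Main
import Cfsg.Agent.ThreeTINine.Simple
import Cfsg.Agent.ThreeTINine.SixModel
import Cfsg.Agent.ThreeKlein.Main
import Cfsg.Agent.S0497

/-!
# A Sylow subgroup of order nine with dihedral normalizer quotient
-/

set_option autoImplicit false

namespace Cfsg.Agent.ThreeTINine.Wreath

open Cfsg Cfsg.Agent Subgroup ThreeWreath

universe u

/-- Parity of the reflections among the two coordinates. -/
def pA (m : M1) : Bool := xor (!ThreeKlein.isRot m.left.1) (!ThreeKlein.isRot m.left.2)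

/-- Whether the exchange occurs. -/
def pW (m : M1) : Bool := !(m.right == 1)

/-- The characters of index two. -/
def par (a b : Bool) (m : M1) : Bool := xor (!a && pA m) (!b && pW m)

/-- Representatives modulo the Sylow subgroup. -/
def word : Fin 8 → M1
  | 0 => 1
  | 1 => gA
  | 2 => gW
  | 3 => gA * gW
  | 4 => gW * gA
  | 5 => gA * gW * gA
  | 6 => gW * gA * gW
  | 7 => gA * gW * gA * gW

theorem word_spec : ∀ m : M1, ∃ t : M1, inT t = true ∧ ∃ i, m = t * word i := by decide +kernel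

theorem par_word : ∀ a b : Bool, ∀ t : M1, inT t = true → ∀ i, par a b (t * word i) = match i with
    | 0 => false | 1 => !a | 2 => !b | 3 => xor (!a) (!b) | 4 => xor (!a) (!b)
    | 5 => !b | 6 => !a | 7 => false := by decide +kernel

theorem par_sq : ∀ m : M1, (par true false m = false → inT (m * m) = true) ∧
    (par false true m = false → inT (m * m) = true) := by decide +kernel

theorem cyclic_facts : par false false (gA * gW) = false ∧ inT (gA * gW * (gA * gW)) = false := by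
  decide +kernel

theorem cyclic_cent : ∀ m : M1, par false false m = false → ∀ t : M1, inT t = true → t ≠ 1 →
    m * t = t * m → inT m = true := by decide +kernel

theorem cyclic_orbit : ∀ t : M1, inT t = true → ∀ n : M1, ∃ n' : M1, par false false n' = false ∧
    n' * t * n'⁻¹ = n * t * n⁻¹ := by decide +kernel

theorem rep_moves : ∀ i : Fin 3, ∃ t : M1, inT t = true ∧ inT (rep i * t * (rep i)⁻¹ * t⁻¹) = true ∧
    rep i * t * (rep i)⁻¹ * t⁻¹ ≠ 1 := by decide +kernel

theorem inT_irred : ∀ c : M1, inT c = true → c ≠ 1 → ∃ k : M1, ∀ t : M1, inT t = true →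
    ∃ a b : Fin 3, t = c ^ (a : ℕ) * (k * c * k⁻¹) ^ (b : ℕ) := by decide +kernel

theorem inT_one : inT (1 : M1) = true := by decide +kernel

theorem par_card : ∀ a b : Bool, (a = false ∨ b = false) →
    (Finset.univ.filter fun m : M1 => par a b m = false).card = 36 := by decide +kernel

variable {G : Type u} [Group G] [Finite G] {T : Sylow 3 G} {φ : M1 →* G}

/-- A nonprincipal character gives a subgroup of index two containing the Sylow subgroup. -/
theorem exists_index_two (h : Cfg T φ) (χ : IrrCharacter G) (hχ : (χ : G → ℂ) ≠ fun _ => 1)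
    (hor : (∃ i, (χ : G → ℂ) (φ (rep i)) = (χ : G → ℂ) 1) ∨ (χ : G → ℂ) 1 = 1) :
    ∃ K : Subgroup G, K.index = 2 ∧ (T : Subgroup G) ≤ K ∧ ¬ φ.range ≤ K := by
  classical
  haveI := Fintype.ofFinite G
  haveI : Fact (Nat.Prime 3) := ⟨Nat.prime_three⟩
  haveI : Fact (Nat.Prime 2) := ⟨Nat.prime_two⟩
  have hχc := Char.IsIrr.isCharacter χ.2
  obtain ⟨K0, hK0n, hK0, c, hcT, hc1, hcK⟩ : ∃ K0 : Subgroup G, K0.Normal ∧ K0 ≠ ⊤ ∧
      ∃ c, inT c = true ∧ c ≠ 1 ∧ φ c ∈ K0 := by
    rcases hor with ⟨i, hi⟩ | h1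
    · refine ⟨Char.kerSubgroup hχc, inferInstance, fun e => hχ ?_, ?_⟩
      · obtain ⟨f, hf, hfe⟩ := Char.IsIrr.exists_quotient ⊤ χ.2 fun g _ =>
          (Char.mem_kerSubgroup hχc).1 (e ▸ mem_top g)
        have : Subsingleton (G ⧸ (⊤ : Subgroup G)) := QuotientGroup.subsingleton_quotient_top
        funext x
        rw [hfe x, Subsingleton.elim (QuotientGroup.mk x : G ⧸ (⊤ : Subgroup G)) 1,
          Char.IsIrr.degree_one_of_comm hf fun _ _ => Subsingleton.elim _ _]
      · obtain ⟨t, ht, hc, hc1⟩ := rep_moves i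
        refine ⟨_, hc, hc1, ?_⟩
        have hu : φ (rep i) ∈ Char.kerSubgroup hχc := hi
        simp only [map_mul, map_inv]
        rw [mul_assoc (φ (rep i)) (φ t), mul_assoc]
        exact mul_mem hu ((Char.kerSubgroup_normal hχc).conj_mem _ (inv_mem hu) (φ t))
    · obtain ⟨f, hf⟩ := Char.IsChar.exists_hom hχc h1
      refine ⟨f.ker, inferInstance, fun e => hχ (funext fun g => ?_), ?_⟩
      · have hg : g ∈ f.ker := e ▸ mem_top g
        rw [hf]; simp [show f g = 1 from hg]
      · obtain ⟨t, ht, hc, hc1⟩ := rep_moves 0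
        exact ⟨_, hc, hc1, by simp⟩
  have hTK : (T : Subgroup G) ≤ K0 := fun g hg => by
    obtain ⟨t, ht, rfl⟩ := h.exists_T hg
    obtain ⟨k, hk⟩ := inT_irred c hcT hc1
    obtain ⟨a, b, rfl⟩ := hk t ht
    rw [map_mul, map_pow, map_pow, map_mul, map_mul, map_inv]
    exact mul_mem (pow_mem hcK _) (pow_mem (hK0n.conj_mem _ hcK _) _)
  have hsurj : Function.Surjective ((QuotientGroup.mk' K0).comp φ) := by
    intro q
    obtain ⟨g, rfl⟩ := QuotientGroup.mk'_surjective K0 q
    have hf := Sylow.normalizer_sup_eq_top (T.subtype hTK)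
    have hmap : ((T.subtype hTK : Sylow 3 K0) : Subgroup K0).map K0.subtype = T := by
      show ((T : Subgroup G).subgroupOf K0).map K0.subtype = T
      rw [subgroupOf_map_subtype, inf_eq_left.2 hTK]
    rw [hmap] at hf
    have hg : g ∈ normalizer ((T : Subgroup G) : Set G) ⊔ K0 := hf ▸ mem_top g
    rw [← SetLike.mem_coe, mul_normal] at hg
    obtain ⟨n, hn, k, hk, rfl⟩ := hg
    rw [SetLike.mem_coe, ← h.range_eq] at hn
    obtain ⟨m, rfl⟩ := hn
    refine ⟨m, ?_⟩
    show (QuotientGroup.mk (φ m) : G ⧸ K0) = QuotientGroup.mk (φ m * k)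
    rw [QuotientGroup.eq, inv_mul_cancel_left]
    exact hk
  have hd72 := Subgroup.card_dvd_of_surjective _ hsurj
  rw [Nat.card_eq_fintype_card (α := M1), card_M1] at hd72
  have hd3 : ¬ 3 ∣ Nat.card (G ⧸ K0) := fun hd =>
    T.not_dvd_index (hd.trans (index_eq_card K0 ▸ index_dvd_of_le hTK))
  have hd8 : Nat.card (G ⧸ K0) ∣ 2 ^ 3 := by
    refine Nat.Coprime.dvd_of_dvd_mul_right (k := Nat.card (G ⧸ K0)) (n := 9) ?_
      (show Nat.card (G ⧸ K0) ∣ 2 ^ 3 * 9 from hd72)
    rw [show (9 : ℕ) = 3 ^ 2 from rfl]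
    exact Nat.Coprime.pow_right 2 ((Nat.prime_three.coprime_iff_not_dvd).2 hd3).symm
  obtain ⟨k, -, hk⟩ := (Nat.dvd_prime_pow Nat.prime_two).1 hd8
  have hk0 : k ≠ 0 := fun e => hK0 (index_eq_one.1 (by rw [index_eq_card, hk, e, pow_zero]))
  obtain ⟨Kb, hKb⟩ := Sylow.exists_subgroup_card_pow_prime 2 (G := G ⧸ K0) (n := k - 1)
    (by rw [hk]; exact pow_dvd_pow 2 (by omega))
  have hKbi : Kb.index = 2 := by
    have h1 := Kb.card_mul_index
    rw [hKb, hk] at h1
    refine Nat.eq_of_mul_eq_mul_left (pow_pos two_pos (k - 1)) ?_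
    rw [h1, ← pow_succ]
    congr 1
    omega
  refine ⟨Kb.comap (QuotientGroup.mk' K0), ?_, fun g hg => ?_, fun hle => ?_⟩
  · rw [index_comap_of_surjective Kb (QuotientGroup.mk'_surjective K0), hKbi]
  · rw [mem_comap, show QuotientGroup.mk' K0 g = 1 from (QuotientGroup.eq_one_iff g).2 (hTK hg)]
    exact one_mem _
  · have : Kb = ⊤ := eq_top_iff.2 fun q _ => by
      obtain ⟨m, rfl⟩ := hsurj q
      exact hle ⟨m, rfl⟩
    rw [this, index_top] at hKbi
    omega

theorem eq_top_of_le {H K : Subgroup G} (hi : K.index = 2) (h1 : K ≤ H) {g : G} (hg : g ∈ H) (hgK : g ∉ K) :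
    H = ⊤ := by
  refine eq_top_iff.2 fun x _ => ?_
  by_cases hx : x ∈ K
  · exact h1 hx
  · have : x * g ∈ K := (mul_mem_iff_of_index_two hi).2 (iff_of_false hx hgK)
    simpa using mul_mem (h1 this) (inv_mem hg)

/-- The main dichotomy. -/
theorem main {t w : G} (hg : Gens T t w) :
    normalizer ((T : Subgroup G) : Set G) = ⊤ ∨ Nonempty (G ≃* Equiv.Perm (Fin 6)) := by
  classical
  haveI : Fact (Nat.Prime 3) := ⟨Nat.prime_three⟩
  obtain ⟨φ, h, χ, hχ, hor⟩ := by
    letI := Fintype.ofFinite G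
    exact hg.exists_quot
  obtain ⟨K, hKi, hTK, hnK⟩ := exists_index_two h χ hχ hor
  have hKn : K.Normal := normal_of_index_eq_two hKi
  set L : Subgroup M1 := K.comap φ with hL
  obtain ⟨g0, ⟨m0, rfl⟩, hg0⟩ := SetLike.not_le_iff_exists.1 hnK
  set N := normalizer ((T : Subgroup G) : Set G) with hN
  have hm0N : φ m0 ∈ N := by rw [hN, ← h.range_eq]; exact ⟨m0, rfl⟩
  have htL : ∀ m, inT m = true → φ m ∈ K := fun m hm => hTK ((h.mem_T m).2 hm)
  set a : Bool := decide (φ gA ∈ K) with ha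
  set b : Bool := decide (φ gW ∈ K) with hb
  have hmemK : ∀ m, φ m ∈ K ↔ par a b m = false := by
    intro m
    obtain ⟨t, ht, i, rfl⟩ := word_spec m
    rw [par_word a b t ht i, map_mul, mul_mem_iff_of_index_two hKi, iff_true_left (htL t ht)]
    have hA : φ gA ∈ K ↔ a = true := by rw [ha, decide_eq_true_eq]
    have hW : φ gW ∈ K ↔ b = true := by rw [hb, decide_eq_true_eq]
    fin_cases i <;> simp only [word, map_one, map_mul, mul_mem_iff_of_index_two hKi, one_mem, hA, hW] <;>
      cases a <;> cases b <;> simp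
  have hab : a = false ∨ b = false := by
    by_contra hcon
    simp only [not_or, Bool.not_eq_false] at hcon
    refine hg0 ((hmemK m0).2 ?_)
    rw [hcon.1, hcon.2]
    simp [par]
  let T' : Sylow 3 K := T.subtype hTK
  have hT' : ∀ x : K, x ∈ (T' : Subgroup K) ↔ (x : G) ∈ (T : Subgroup G) := fun x => Iff.rfl
  have hnorm : ∀ x : K, x ∈ normalizer ((T' : Subgroup K) : Set K) ↔ (x : G) ∈ N := fun x => by
    constructor
    · intro hx
      exact mem_normalizer_fintype fun n hn => (hT' _).1 ((mem_normalizer_iff.1 hx ⟨n, hTK hn⟩).1 hn)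
    · intro hx
      rw [mem_normalizer_iff]
      exact fun y => by simp only [hT']; exact mem_normalizer_iff.1 hx y
  have htopK : normalizer ((T' : Subgroup K) : Set K) = ⊤ → N = ⊤ := fun e =>
    eq_top_of_le hKi (fun x hx => (hnorm ⟨x, hx⟩).1 (e ▸ mem_top _)) hm0N hg0
  have hcardNK : Nat.card (normalizer ((T' : Subgroup K) : Set K)) = 36 := by
    rw [← par_card a b hab, ← Fintype.card_subtype, ← Nat.card_eq_fintype_card]
    refine (Nat.card_congr (Equiv.ofBijective (fun m : {m : M1 // par a b m = false} =>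
      (⟨⟨φ m.1, (hmemK _).2 m.2⟩, (hnorm _).2 (by rw [hN, ← h.range_eq]; exact ⟨m.1, rfl⟩)⟩ :
        normalizer ((T' : Subgroup K) : Set K))) ⟨?_, ?_⟩)).symm
    · intro x y e
      exact Subtype.ext (h.inj (congrArg (fun z : normalizer ((T' : Subgroup K) : Set K) => ((z : K) : G)) e))
    · rintro ⟨⟨x, hx⟩, hxN⟩
      have hxN' := (hnorm _).1 hxN
      rw [hN, ← h.range_eq] at hxN'
      obtain ⟨m, rfl⟩ := hxN'
      exact ⟨⟨m, (hmemK m).1 hx⟩, rfl⟩
  have hT'9 : Nat.card (T' : Subgroup K) = 9 := by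
    rw [show (T' : Subgroup K) = (T : Subgroup G).subgroupOf K from rfl,
      Nat.card_congr (subgroupOfEquivOfLe hTK).toEquiv, hg.card]
  have hcube : ∀ x ∈ (T' : Subgroup K), x ^ 3 = 1 := fun x hx => Subtype.ext (hg.cube _ hx)
  have hcomm : ∀ x ∈ (T' : Subgroup K), ∀ y ∈ (T' : Subgroup K), x * y = y * x := fun x hx y hy =>
    Subtype.ext (hg.comm _ hx _ hy)
  have klein : (∀ m, par a b m = false → inT (m * m) = true) → N = ⊤ := by
    intro hsq
    haveI hn : ((T' : Subgroup K).subgroupOf (normalizer ((T' : Subgroup K) : Set K))).Normal :=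
      (normal_subgroupOf_iff_le_normalizer le_normalizer).2 le_rfl
    have hK4 : IsKleinFour (↥(normalizer ((T' : Subgroup K) : Set K)) ⧸
        (T' : Subgroup K).subgroupOf (normalizer ((T' : Subgroup K) : Set K))) := by
      have h4 : Nat.card (↥(normalizer ((T' : Subgroup K) : Set K)) ⧸
          (T' : Subgroup K).subgroupOf (normalizer ((T' : Subgroup K) : Set K))) = 4 := by
        have h1 := ((T' : Subgroup K).subgroupOf (normalizer ((T' : Subgroup K) : Set K))).card_mul_index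
        rw [Nat.card_congr (subgroupOfEquivOfLe
          (le_normalizer : (T' : Subgroup K) ≤ _)).toEquiv, hT'9, hcardNK, index_eq_card] at h1
        omega
      refine ⟨h4, ?_⟩
      refine ((Nat.dvd_prime Nat.prime_two).1 (Monoid.exponent_dvd_of_forall_pow_eq_one fun q => ?_)).resolve_left
        fun e1 => ?_
      · obtain ⟨x, rfl⟩ := QuotientGroup.mk_surjective q
        rw [← QuotientGroup.mk_pow, QuotientGroup.eq_one_iff, mem_subgroupOf, hT']
        have hx := (hnorm _).1 x.2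
        rw [hN, ← h.range_eq] at hx
        obtain ⟨m, hm⟩ := hx
        have := (h.mem_T _).2 (hsq m ((hmemK m).1 (hm ▸ (x : K).2)))
        rw [map_mul, hm] at this
        simpa [sq] using this
      · have := Monoid.exp_eq_one_iff.1 e1
        rw [Nat.card_of_subsingleton (1 : ↥(normalizer ((T' : Subgroup K) : Set K)) ⧸
          (T' : Subgroup K).subgroupOf (normalizer ((T' : Subgroup K) : Set K)))] at h4
        omega
    have hC : centralizer ((T' : Subgroup K) : Set K) = T' := by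
      refine le_antisymm (fun x hx => ?_) fun x hx => mem_centralizer_iff.2 fun y hy => hcomm y hy x hx
      rw [hT', ← SetLike.mem_coe, ← h.cent]
      exact mem_centralizer_iff.2 fun y hy => congrArg Subtype.val (mem_centralizer_iff.1 hx ⟨y, hTK hy⟩ hy)
    have hloc : ∀ x ∈ (T' : Subgroup K), x ≠ 1 →
        centralizer ({x} : Set K) ≤ normalizer ((T' : Subgroup K) : Set K) := by
      intro x hx hx1 y hy
      rw [hnorm, hN, ← h.range_eq]
      refine h.loc _ hx (fun e => hx1 (Subtype.ext e)) (mem_centralizer_singleton_iff.2 ?_)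
      exact congrArg Subtype.val (mem_centralizer_singleton_iff.1 hy)
    obtain ⟨ψ, hψ⟩ := ThreeKlein.exists_cfg T' hcomm hcube hT'9 hC hK4 hloc
    exact htopK hψ.normalizer_eq_top
  cases hav : a
  swap
  · refine Or.inl (klein fun m hm => ?_)
    rw [hav] at hm hab
    obtain hb' : b = false := by simpa using hab
    rw [hb'] at hm
    exact (par_sq m).1 hm
  cases hbv : b
  swap
  · refine Or.inl (klein fun m hm => ?_)
    rw [hav, hbv] at hm
    exact (par_sq m).2 hm
  -- the cyclic case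
  rw [hav, hbv] at hmemK
  have hcentK : ∀ x ∈ (T' : Subgroup K), x ≠ 1 → centralizer ({x} : Set K) = T' := by
    intro x hx hx1
    refine le_antisymm (fun y hy => ?_) fun y hy => mem_centralizer_singleton_iff.2 (hcomm y hy x hx)
    have e := congrArg Subtype.val (mem_centralizer_singleton_iff.1 hy)
    obtain ⟨m, hm⟩ := h.loc _ hx (fun e => hx1 (Subtype.ext e)) (mem_centralizer_singleton_iff.2 e)
    obtain ⟨t, ht, htx⟩ := h.exists_T ((hT' x).1 hx)
    rw [hT', ← hm, h.mem_T]
    refine cyclic_cent m ((hmemK m).1 (hm ▸ y.2)) t ht (fun e' => hx1 (Subtype.ext ?_)) (h.inj ?_)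
    · rw [← htx, e', map_one]; rfl
    · rw [map_mul, map_mul, hm, htx]; exact e
  have hTI : TI (T' : Subgroup K) := TI.of_sylow T' rfl hcomm hcube hT'9 hcentK
  have h27 : ¬ 27 ∣ Nat.card K := fun hd => by
    have h1 := T'.not_dvd_index
    have h2 := (T' : Subgroup K).card_mul_index
    rw [hT'9] at h2
    exact h1 (Nat.dvd_of_mul_dvd_mul_left (show 0 < 9 by norm_num) (h2 ▸ hd))
  have hnk : ¬ ∀ g ∈ normalizer ((T' : Subgroup K) : Set K), g * g ∈ (T' : Subgroup K) := fun hall => by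
    have := hall ⟨φ (gA * gW), (hmemK _).2 cyclic_facts.1⟩ ((hnorm _).2 (by rw [hN, ← h.range_eq]; exact ⟨_, rfl⟩))
    rw [hT'] at this
    have h1 := (h.mem_T (gA * gW * (gA * gW))).1 (by rw [map_mul]; exact this)
    rw [cyclic_facts.2] at h1
    exact Bool.false_ne_true h1
  obtain ⟨v, hv, x, hx, hx1, hxy, hy, hcov⟩ := hTI.exists_four hcardNK hnk
  by_cases hne : normalizer ((T' : Subgroup K) : Set K) = ⊤
  · exact Or.inl (htopK hne)
  refine Or.inr ?_
  have h360 := (hTI.four_case hv hx hx1 hxy hy hcov hcardNK h27).resolve_left hne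
  haveI := hTI.simple_of_four T' rfl hv hx hx1 hy hcardNK hne
  obtain ⟨e⟩ := S0497.result (G := K) h360
  refine SixModel.nonempty_perm_six K hKi e (eq_bot_iff.2 fun g hgc => ?_) ?_
  · rw [mem_bot]
    have hgT : g ∈ (T : Subgroup G) := by
      rw [← SetLike.mem_coe, ← h.cent, SetLike.mem_coe]
      exact mem_centralizer_iff.2 fun y hy => mem_centralizer_iff.1 hgc y (hTK hy)
    by_contra hg1
    have hz : (⟨g, hTK hgT⟩ : K) ∈ center K := mem_center_iff.2 fun y =>
      Subtype.ext (mem_centralizer_iff.1 hgc y y.2)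
    have hK := hTI.cent ⟨g, hTK hgT⟩ hgT fun e' => hg1 (congrArg Subtype.val e')
    have htop : centralizer ({⟨g, hTK hgT⟩} : Set K) = ⊤ := eq_top_iff.2 fun y _ =>
      mem_centralizer_singleton_iff.2 (mem_center_iff.1 hz y)
    rw [htop] at hK
    refine hne (eq_top_iff.2 ?_)
    rw [hK]
    exact le_normalizer
  · intro g y hy h3
    obtain ⟨k0, hk0⟩ := hTI.cover ⟨y, hy⟩ (Subtype.ext h3)
    obtain ⟨s, hs, hsy⟩ := h.exists_T ((hT' _).1 hk0)
    have hsy' : φ s = (k0 : G) * y * (k0 : G)⁻¹ := hsy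
    by_cases hy1 : y = 1
    · exact ⟨1, one_mem _, by rw [hy1]; simp⟩
    set g' := g * (k0 : G)⁻¹ with hg'
    have hzK : g' * φ s * g'⁻¹ ∈ K := hKn.conj_mem _ (htL s hs) g'
    have hz3 : (g' * φ s * g'⁻¹) ^ 3 = 1 := by
      rw [conj_pow, h.T_cube ((h.mem_T s).2 hs)]; group
    obtain ⟨k2, hk2⟩ := hTI.cover ⟨_, hzK⟩ (Subtype.ext hz3)
    have hk2' : ((k2 : G) * g') * φ s * ((k2 : G) * g')⁻¹ ∈ (T : Subgroup G) := by
      rw [show ((k2 : G) * g') * φ s * ((k2 : G) * g')⁻¹ = (k2 : G) * (g' * φ s * g'⁻¹) * (k2 : G)⁻¹ by group]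
      exact (hT' _).1 hk2
    have hs1 : φ s ≠ 1 := by
      rw [hsy']
      exact fun e' => hy1 (conj_eq_one_iff.1 e')
    obtain ⟨n, hn⟩ := h.fus ((h.mem_T s).2 hs) hs1 hk2'
    obtain ⟨n', hn', hnn⟩ := cyclic_orbit s hs n
    refine ⟨(k2 : G)⁻¹ * φ n' * k0, mul_mem (mul_mem (inv_mem k2.2) ((hmemK n').2 hn')) k0.2, ?_⟩
    calc (k2 : G)⁻¹ * φ n' * k0 * y * ((k2 : G)⁻¹ * φ n' * k0)⁻¹
        = (k2 : G)⁻¹ * (φ n' * ((k0 : G) * y * (k0 : G)⁻¹) * (φ n')⁻¹) * k2 := by group
      _ = (k2 : G)⁻¹ * (φ n * ((k0 : G) * y * (k0 : G)⁻¹) * (φ n)⁻¹) * k2 := by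
        rw [← hsy', ← map_inv, ← map_mul, ← map_mul, hnn, map_mul, map_mul, map_inv]
      _ = g * y * g⁻¹ := by rw [hn, hg']; group

end Cfsg.Agent.ThreeTINine.Wreath
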