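import Cfsg.Agent.ThreeTINine.Count
import Cfsg.Agent.ThreeTINine.Arith
import Mathlib.GroupTheory.Index
import Mathlib.GroupTheory.GroupAction.Quotient

/-!
# The two possible shapes of the normalizer
-/

set_option autoImplicit false

namespace Cfsg.Agent.ThreeTINine

open Cfsg Cfsg.Agent Subgroup
open scoped ComplexConjugate

universe u

variable {G : Type u} [Group G] {S : Subgroup G}

/-- Representatives of the four lines. -/
def line : Fin 4 → A2
  | 0 => Multiplicative.ofAdd (1, 0)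
  | 1 => Multiplicative.ofAdd (0, 1)
  | 2 => Multiplicative.ofAdd (1, 1)
  | 3 => Multiplicative.ofAdd (1, 2)

theorem line_ne_one : ∀ j, line j ≠ 1 := by decide +kernel

theorem line_inj : ∀ i j, i ≠ j → line i ≠ line j ∧ line i ≠ (line j)⁻¹ := by decide +kernel

theorem line_sum : ∀ i : Fin 2, ∀ t : A2, t = line 0 * line 1 ∨ t = (line 0)⁻¹ * line 1 →
    t ≠ line 0 ∧ t ≠ (line 0)⁻¹ := by decide +kernel

theorem basis : ∀ t : A2, t = line 0 ^ t.toAdd.1.val * line 1 ^ t.toAdd.2.val := by decide +kernel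

/-- Rotation of the coordinates. -/
def rot (t : A2) : A2 := Multiplicative.ofAdd (-t.toAdd.2, t.toAdd.1)

theorem rot_basis : ∀ t : A2,
    rot t = line 1 ^ t.toAdd.1.val * (line 0)⁻¹ ^ t.toAdd.2.val := by decide +kernel

theorem rot_two : ∀ t : A2, rot (rot t) = t⁻¹ := by decide +kernel

/-- The orbit of the first line under rotation. -/
def inA (t : A2) : Bool := decide (t = line 0 ∨ t = line 1 ∨ t = (line 0)⁻¹ ∨ t = (line 1)⁻¹)

theorem inA_facts : (∀ t, inA t = true → rot (rot t) = t⁻¹) ∧ inA (line 0 * line 1) = false ∧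
    inA (line 0 * (line 0 * line 1)) = false := by
  refine ⟨?_, ?_, ?_⟩ <;> decide +kernel

theorem products : inA (line 0 * (line 0 * line 1)) = false ∧ inA (line 1 * (line 0 * line 1)) = false ∧
    inA ((line 0)⁻¹ * (line 0 * line 1)) = true ∧ inA ((line 1)⁻¹ * (line 0 * line 1)) = true := by
  refine ⟨?_, ?_, ?_, ?_⟩ <;> decide +kernel

theorem inA_other : ∀ t : A2, t ≠ 1 → inA t = false →
    ∃ i : Fin 4, (rot^[(i : ℕ)]) t = line 0 * line 1 := by decide +kernel

theorem inA_orbit : ∀ t : A2, inA t = true → ∃ i : Fin 4, (rot^[(i : ℕ)]) t = line 0 := by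
  decide +kernel

theorem card_parts : (Finset.univ.filter fun t : A2 => t = 1).card = 1 ∧
    (Finset.univ.filter fun t : A2 => inA t = true).card = 4 ∧
    (Finset.univ.filter fun t : A2 => t ≠ 1 ∧ inA t = false).card = 4 := by
  refine ⟨?_, ?_, ?_⟩ <;> decide +kernel

/-- Inversion on two generators is inversion. -/
theorem conj_coord (ψ : A2 →* G) (g : G) (f : A2 → A2)
    (hf : ∀ t, f t = f (line 0) ^ t.toAdd.1.val * f (line 1) ^ t.toAdd.2.val)
    (h0 : g * ψ (line 0) * g⁻¹ = ψ (f (line 0))) (h1 : g * ψ (line 1) * g⁻¹ = ψ (f (line 1))) (t : A2) :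
    g * ψ t * g⁻¹ = ψ (f t) := by
  conv_lhs => rw [basis t]
  rw [hf t, map_mul, map_mul, map_pow, map_pow, map_pow, map_pow, ← h0, ← h1, conj_pow, conj_pow]
  group

variable [Finite G]

/-- A normalizer inverting every element gives a linear character. -/
theorem TI.two_case (h : TI S) {u : G} (hinv : ∀ s ∈ S, u * s * u⁻¹ = s⁻¹)
    (hN : ∀ g ∈ normalizer (S : Set G), ∀ s ∈ S, g * s * g⁻¹ = s ∨ g * s * g⁻¹ = s⁻¹) :
    ∃ χ : IrrCharacter G, (χ : G → ℂ) ≠ (fun _ => 1) ∧ (χ : G → ℂ) 1 = 1 := by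
  classical
  haveI := Fintype.ofFinite G
  have hreal : ∀ x ∈ S, IsConj x x⁻¹ := fun x hx => isConj_iff.2 ⟨u, hinv x hx⟩
  obtain ⟨x, hx, hx1⟩ : ∃ x ∈ S, x ≠ 1 := by
    refine (S.bot_or_exists_ne_one).resolve_left fun e => ?_
    have := h.card
    rw [e, card_bot] at this
    omega
  obtain ⟨y, hy, hy0⟩ : ∃ y ∈ S, y ∉ zpowers x := by
    by_contra hcon
    push Not at hcon
    have h1 := card_le_of_le (show S ≤ zpowers x from hcon)
    have h2 : orderOf x ≤ 3 := Nat.le_of_dvd (by norm_num) (orderOf_dvd_of_pow_eq_one (h.cube x hx))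
    rw [h.card, Nat.card_zpowers] at h1
    omega
  obtain ⟨ψ, hψ, hr, ex, ey⟩ := h.exists_coord hx hx1 hy hy0
  have hmem : ∀ t, ψ t ∈ S := fun t => hr ▸ ⟨t, rfl⟩
  have hne : ∀ t, t ≠ 1 → ψ t ≠ 1 := fun t ht e => ht (hψ (by rw [e, map_one]))
  have hcj : ∀ s t, IsConj (ψ s) (ψ t) → s ≠ 1 → t = s ∨ t = s⁻¹ := fun s t hc hs => by
    obtain ⟨g, hg⟩ := isConj_iff.1 hc
    have hgN := h.mem_normalizer (hmem s) (hne s hs) (hg ▸ hmem t)
    rcases hN g hgN _ (hmem s) with e | e <;> rw [e] at hg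
    · exact Or.inl (hψ hg.symm)
    · exact Or.inr (hψ (by rw [map_inv]; exact hg.symm))
  choose a ha using fun j (χ : IrrCharacter G) => h.exists_int hreal χ (hmem (line j))
  choose n hn0 hn using fun χ : IrrCharacter G => Char.IsIrr.degree χ.2
  set d : IrrCharacter G → ℤ := fun χ => n χ with hd
  have hdv : ∀ χ : IrrCharacter G, (χ : G → ℂ) 1 = d χ := fun χ => by simp [hd, hn χ]
  let o : IrrCharacter G := ⟨fun _ => 1, Char.isIrrCharacter_one⟩
  have hone : ∀ {z : ℤ} (g : G), (o : G → ℂ) g = z → z = 1 := fun {z} g e => by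
    exact_mod_cast (show (z : ℂ) = 1 from e.symm)
  have gram : ∀ i j, ∑ χ, a i χ * a j χ = if i = j then 9 else 0 := fun i j => by
    rw [h.col hreal (hmem _) (hmem _) (hne _ (line_ne_one j)) _ _ (ha i) (ha j)]
    refine if_congr ⟨fun e => ?_, fun e => e ▸ IsConj.refl _⟩ rfl rfl
    by_contra hij
    rcases hcj _ _ e (line_ne_one i) with e' | e'
    · exact (line_inj j i (Ne.symm hij)).1 e'
    · exact (line_inj j i (Ne.symm hij)).2 e'
  have hnc : ¬ IsConj (ψ (line 0)) (ψ (line 1)) := fun e => by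
    rcases hcj _ _ e (line_ne_one 0) with e' | e'
    · exact (line_inj 1 0 (by decide)).1 e'
    · exact (line_inj 1 0 (by decide)).2 e'
  have hts := h.triple_sum (hmem (line 0)) (hne _ (line_ne_one 0)) (hmem (line 1))
    (hne _ (line_ne_one 1)) (hmem (line 0)) (hne _ (line_ne_one 0)) (fun e => hnc e.1)
  have hE : (Finset.univ.filter fun g : G => g ∈ normalizer (S : Set G) ∧
      IsConj (g * ψ (line 0) * g⁻¹ * ψ (line 1)) (ψ (line 0))) = ∅ := by
    refine Finset.filter_eq_empty_iff.2 fun g _ hg => ?_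
    obtain ⟨hgN, hc⟩ := hg
    obtain ⟨t, ht, hgt⟩ : ∃ t, (t = line 0 * line 1 ∨ t = (line 0)⁻¹ * line 1) ∧
        g * ψ (line 0) * g⁻¹ * ψ (line 1) = ψ t := by
      rcases hN g hgN _ (hmem (line 0)) with e | e <;> rw [e]
      · exact ⟨_, Or.inl rfl, by rw [map_mul]⟩
      · exact ⟨_, Or.inr rfl, by rw [map_mul, map_inv]⟩
    rw [hgt] at hc
    rcases hcj _ _ hc.symm (line_ne_one 0) with e | e
    · exact (line_sum 0 t ht).1 e
    · exact (line_sum 0 t ht).2 e
  rw [hE, Finset.card_empty] at hts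
  simp only [ha, hdv, map_intCast, Nat.cast_zero, mul_zero, zero_div] at hts
  obtain ⟨χ, hχo, hχ⟩ := linear_of_four o a d (fun χ => Int.natCast_pos.2 (hn0 χ)) (hone 1 (hdv o))
    (fun j => hone _ (ha j o)) gram
    (fun j => h.col_degree (hmem _) (hne _ (line_ne_one j)) (a j) d (ha j) hdv)
    (fun i j χ => by
      have h1 := h.three_dvd hreal (hmem (line i)) χ (ha i χ) (hdv χ)
      have h2 := h.three_dvd hreal (hmem (line j)) χ (ha j χ) (hdv χ)
      omega)
    (by
      apply Rat.cast_injective (α := ℂ)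
      push_cast
      exact hts)
  exact ⟨χ, fun e => hχo (Subtype.ext e), by rw [hdv, hχ, Int.cast_one]⟩

/-- A normalizer of index four over the subgroup bounds the order. -/
theorem TI.four_bound (h : TI S) {w x : G} (hw : w ∈ normalizer (S : Set G)) (hx : x ∈ S) (hx1 : x ≠ 1)
    (hxy : w * x * w⁻¹ ∉ zpowers x) (hy : w * (w * x * w⁻¹) * w⁻¹ = x⁻¹)
    (hN : ∀ g ∈ normalizer (S : Set G), ∃ i : Fin 4, (w ^ (i : ℕ))⁻¹ * g ∈ S) :
    Nat.card G ≤ 462 := by
  classical
  haveI := Fintype.ofFinite G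
  obtain ⟨ψ, hψ, hr, ex, ey⟩ := h.exists_coord hx hx1 ((mem_normalizer_iff.1 hw x).1 hx) hxy
  have hmem : ∀ t, ψ t ∈ S := fun t => hr ▸ ⟨t, rfl⟩
  have hne : ∀ t, t ≠ 1 → ψ t ≠ 1 := fun t ht e => ht (hψ (by rw [e, map_one]))
  have hrot : ∀ t, w * ψ t * w⁻¹ = ψ (rot t) := by
    refine conj_coord ψ w rot (fun t => ?_) ?_ ?_
    · rw [show rot (line 0) = line 1 by decide +kernel, show rot (line 1) = (line 0)⁻¹ by decide +kernel]
      exact rot_basis t
    · rw [show rot (line 0) = line 1 by decide +kernel, show ψ (line 0) = x from ex,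
        show ψ (line 1) = w * x * w⁻¹ from ey]
    · rw [show rot (line 1) = (line 0)⁻¹ by decide +kernel, map_inv, show ψ (line 0) = x from ex,
        show ψ (line 1) = w * x * w⁻¹ from ey]
      exact hy
  have hrotn : ∀ (i : ℕ) t, w ^ i * ψ t * (w ^ i)⁻¹ = ψ (rot^[i] t) := by
    intro i
    induction i with
    | zero => intro t; simp
    | succ i ih =>
      intro t
      rw [Function.iterate_succ_apply', ← hrot, ← ih]
      rw [pow_succ']
      group
  have hact : ∀ g ∈ normalizer (S : Set G), ∃ i : Fin 4, ∀ t, g * ψ t * g⁻¹ = ψ (rot^[(i : ℕ)] t) := by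
    intro g hg
    obtain ⟨i, hi⟩ := hN g hg
    refine ⟨i, fun t => ?_⟩
    rw [← hrotn]
    have := h.comm _ hi _ (hmem t)
    calc g * ψ t * g⁻¹ = w ^ (i : ℕ) * ((w ^ (i : ℕ))⁻¹ * g * ψ t) * g⁻¹ := by group
      _ = _ := by rw [this]; group
  have hreal : ∀ s ∈ S, IsConj s s⁻¹ := fun s hs => by
    rw [← hr] at hs
    obtain ⟨t, rfl⟩ := hs
    exact isConj_iff.2 ⟨w ^ 2, by
      rw [hrotn, Function.iterate_succ_apply, Function.iterate_one, rot_two, map_inv]⟩
  have hcj : ∀ s t, IsConj (ψ s) (ψ t) → s ≠ 1 → ∃ i : Fin 4, t = rot^[(i : ℕ)] s := fun s t hc hs => by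
    obtain ⟨g, hg⟩ := isConj_iff.1 hc
    obtain ⟨i, hi⟩ := hact g (h.mem_normalizer (hmem s) (hne s hs) (hg ▸ hmem t))
    exact ⟨i, hψ (by rw [← hi, hg])⟩
  set la := line 0 with hla
  set lb := line 0 * line 1 with hlb
  have la1 : la ≠ 1 := line_ne_one 0
  have lb1 : lb ≠ 1 := by decide +kernel
  have horb : ∀ i : Fin 4, inA (rot^[(i : ℕ)] (line 0)) = true := by decide +kernel
  have hnab : ¬ IsConj (ψ la) (ψ lb) := fun e => by
    obtain ⟨i, hi⟩ := hcj _ _ e la1
    have := horb i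
    rw [← hla, ← hi, inA_facts.2.1] at this
    exact Bool.false_ne_true this
  have hclass : ∀ t : A2, IsConj (ψ t) (ψ la) ↔ inA t = true := fun t => by
    constructor
    · intro e
      obtain ⟨i, hi⟩ := hcj _ _ e.symm la1
      rw [hi]
      exact horb i
    · intro ht
      obtain ⟨i, hi⟩ := inA_orbit t ht
      exact isConj_iff.2 ⟨w ^ (i : ℕ), by rw [hrotn, hi]⟩
  choose va hva using fun χ : IrrCharacter G => h.exists_int hreal χ (hmem la)
  choose vb hvb using fun χ : IrrCharacter G => h.exists_int hreal χ (hmem lb)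
  choose n hn0 hn using fun χ : IrrCharacter G => Char.IsIrr.degree χ.2
  set d : IrrCharacter G → ℤ := fun χ => n χ with hd
  have hdv : ∀ χ : IrrCharacter G, (χ : G → ℂ) 1 = d χ := fun χ => by simp [hd, hn χ]
  let o : IrrCharacter G := ⟨fun _ => 1, Char.isIrrCharacter_one⟩
  have hone : ∀ {z : ℤ} (g : G), (o : G → ℂ) g = z → z = 1 := fun {z} g e => by
    exact_mod_cast (show (z : ℂ) = 1 from e.symm)
  have hc9 : ∀ χ, 9 ∣ d χ + 4 * va χ + 4 * vb χ := fun χ => by
    have hv : ∀ t, (χ : G → ℂ) (ψ t) = (((if t = 1 then d χ else 0) + (if inA t = true then va χ else 0) +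
        (if t ≠ 1 ∧ inA t = false then vb χ else 0) : ℤ) : ℂ) := by
      intro t
      have hcl := Char.isClassFunction_of_isIrr χ.2
      by_cases ht : t = 1
      · subst ht
        rw [map_one, if_pos rfl, if_neg (by decide +kernel), if_neg (by simp), add_zero, add_zero, hdv]
      by_cases hA : inA t = true
      · rw [if_neg ht, if_pos hA, if_neg (by simp [hA]), zero_add, add_zero, ← hva,
          Char.classFun_isConj hcl ((hclass t).2 hA)]
      · rw [if_neg ht, if_neg hA, if_pos ⟨ht, by simpa using hA⟩, zero_add, zero_add, ← hvb]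
        obtain ⟨i, hi⟩ := inA_other t ht (by simpa using hA)
        exact Char.classFun_isConj hcl (isConj_iff.2 ⟨w ^ (i : ℕ), by rw [hrotn, hi]⟩)
    have := dvd_sum ψ χ _ hv
    rw [Finset.sum_add_distrib, Finset.sum_add_distrib, ← Finset.sum_filter, ← Finset.sum_filter,
      ← Finset.sum_filter, Finset.sum_const, Finset.sum_const, Finset.sum_const, card_parts.1,
      card_parts.2.1, card_parts.2.2, show Fintype.card A2 = 9 from rfl] at this
    simpa using this
  have hab := h.col hreal (hmem la) (hmem lb) (hne _ lb1) va vb hva hvb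
  have haa := h.col hreal (hmem la) (hmem la) (hne _ la1) va va hva hva
  have hbb := h.col hreal (hmem lb) (hmem lb) (hne _ lb1) vb vb hvb hvb
  rw [if_neg hnab] at hab
  rw [if_pos (IsConj.refl _)] at haa hbb
  have hS := bound_of_two o va vb d (fun χ => Int.natCast_pos.2 (hn0 χ)) (hone 1 (hdv o))
    (hone _ (hva o)) (hone _ (hvb o)) haa hbb hab
    (h.col_degree (hmem _) (hne _ la1) va d hva hdv) (h.col_degree (hmem _) (hne _ lb1) vb d hvb hdv)
    (fun χ => by
      have h1 := h.three_dvd hreal (hmem la) χ (hva χ) (hdv χ)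
      have h2 := h.three_dvd hreal (hmem lb) χ (hvb χ) (hdv χ)
      omega) hc9
  have hts := h.triple_sum (hmem la) (hne _ la1) (hmem lb) (hne _ lb1) (hmem la) (hne _ la1)
    (fun e => hnab e.1)
  have hdist : ∀ i j : Fin 4, rot^[(i : ℕ)] (line 0) = rot^[(j : ℕ)] (line 0) → i = j := by
    decide +kernel
  let F : Fin 2 × S → G := fun p => w ^ ((p.1 : ℕ) + 2) * (p.2 : G)
  have hF : Function.Injective F := by
    rintro ⟨i, s⟩ ⟨j, t⟩ e
    have hact' : ∀ (k : Fin 2) (r : S), w ^ ((k : ℕ) + 2) * (r : G) * ψ la * (w ^ ((k : ℕ) + 2) * (r : G))⁻¹ =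
        ψ (rot^[(k : ℕ) + 2] la) := fun k r => by
      rw [← hrotn]
      have := h.comm _ r.2 _ (hmem la)
      calc w ^ ((k : ℕ) + 2) * (r : G) * ψ la * (w ^ ((k : ℕ) + 2) * (r : G))⁻¹ =
          w ^ ((k : ℕ) + 2) * ((r : G) * ψ la) * (r : G)⁻¹ * (w ^ ((k : ℕ) + 2))⁻¹ := by group
        _ = _ := by rw [this]; group
    have h1 := hact' i s
    have h2 := hact' j t
    simp only [F] at e
    rw [e, h2] at h1
    have hij := hdist ⟨(i : ℕ) + 2, by omega⟩ ⟨(j : ℕ) + 2, by omega⟩ (hψ h1.symm)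
    have : i = j := by
      have := congrArg Fin.val hij
      simp at this
      exact Fin.ext this
    subst this
    exact Prod.ext rfl (Subtype.ext (mul_left_cancel e))
  have hset : (Finset.univ.filter fun g : G => g ∈ normalizer (S : Set G) ∧
      IsConj (g * ψ la * g⁻¹ * ψ lb) (ψ la)) = Finset.univ.map ⟨F, hF⟩ := by
    ext g
    simp only [Finset.mem_filter, Finset.mem_univ, true_and, Finset.mem_map, Function.Embedding.coeFn_mk]
    constructor
    · rintro ⟨hgN, hc⟩
      obtain ⟨i, hi⟩ := hN g hgN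
      have hgla : g * ψ la * g⁻¹ = ψ (rot^[(i : ℕ)] la) := by
        rw [← hrotn]
        have := h.comm _ hi _ (hmem la)
        calc g * ψ la * g⁻¹ = w ^ (i : ℕ) * ((w ^ (i : ℕ))⁻¹ * g * ψ la) * g⁻¹ := by group
          _ = _ := by rw [this]; group
      rw [hgla, ← map_mul, hclass] at hc
      have hi2 : ∀ i : Fin 4, inA (rot^[(i : ℕ)] (line 0) * (line 0 * line 1)) = true → 2 ≤ (i : ℕ) := by
        decide +kernel
      have := hi2 i hc
      refine ⟨(⟨(i : ℕ) - 2, by omega⟩, ⟨_, hi⟩), ?_⟩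
      simp only [F]
      rw [show (i : ℕ) - 2 + 2 = i by omega, mul_inv_cancel_left]
    · rintro ⟨⟨k, s⟩, rfl⟩
      refine ⟨mul_mem (pow_mem hw _) (le_normalizer s.2), ?_⟩
      have : F (k, s) * ψ la * (F (k, s))⁻¹ = ψ (rot^[(k : ℕ) + 2] la) := by
        rw [← hrotn]
        have := h.comm _ s.2 _ (hmem la)
        simp only [F]
        calc w ^ ((k : ℕ) + 2) * (s : G) * ψ la * (w ^ ((k : ℕ) + 2) * (s : G))⁻¹ =
            w ^ ((k : ℕ) + 2) * ((s : G) * ψ la) * (s : G)⁻¹ * (w ^ ((k : ℕ) + 2))⁻¹ := by group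
          _ = _ := by rw [this]; group
      rw [this, ← map_mul, hclass]
      have hk : ∀ k : Fin 2, inA (rot^[(k : ℕ) + 2] (line 0) * (line 0 * line 1)) = true := by
        decide +kernel
      exact hk k
  rw [hset, Finset.card_map, Finset.card_univ, Fintype.card_prod, Fintype.card_fin,
    ← Nat.card_eq_fintype_card (α := S), h.card] at hts
  simp only [hva, hvb, hdv, map_intCast] at hts
  have hts' : ∑ χ, (va χ : ℚ) * vb χ * va χ / d χ = 162 / (Nat.card G : ℚ) := by
    apply Rat.cast_injective (α := ℂ)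
    push_cast
    rw [hts]
    norm_num
  rw [hts', div_le_div_iff₀ (by norm_num) (Nat.cast_pos.2 Nat.card_pos)] at hS
  have : (7 * Nat.card G : ℕ) ≤ 3240 := by
    have : ((7 * Nat.card G : ℕ) : ℚ) ≤ ((3240 : ℕ) : ℚ) := by push_cast; linarith
    exact_mod_cast this
  omega

/-- An element of order three normalizing the subgroup lies in it. -/
theorem TI.mem_of_cube (h : TI S) (h27 : ¬ 27 ∣ Nat.card G) {z : G} (hz3 : z ^ 3 = 1)
    (hzN : z ∈ normalizer (S : Set G)) : z ∈ S := by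
  haveI : Fact (Nat.Prime 3) := ⟨Nat.prime_three⟩
  have hsup : IsPGroup 3 (zpowers z) := fun ⟨y, hy⟩ => by
    obtain ⟨k, rfl⟩ := mem_zpowers_iff.1 hy
    refine ⟨1, Subtype.ext ?_⟩
    show (z ^ k) ^ (3 ^ 1) = 1
    rw [pow_one, ← zpow_natCast, ← zpow_mul, mul_comm, zpow_mul, zpow_natCast, hz3, one_zpow]
  have hj := (IsPGroup.of_card (p := 3) (n := 2) (by rw [h.card]; norm_num) : IsPGroup 3 S).to_sup_of_normal_left'
    hsup (zpowers_le.2 hzN)
  obtain ⟨m, hm⟩ := IsPGroup.iff_card.1 hj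
  have hd := card_subgroup_dvd_card (S ⊔ zpowers z : Subgroup G)
  rw [hm] at hd
  have hle : m ≤ 2 := by
    by_contra hlt
    exact h27 ((pow_dvd_pow 3 (show 3 ≤ m by omega)).trans hd)
  exact (eq_of_le_of_card_ge (le_sup_left : S ≤ S ⊔ zpowers z)
    (by rw [h.card, hm]; exact (Nat.pow_le_pow_right (by norm_num) hle).trans (by norm_num))) ▸
    mem_sup_right (mem_zpowers z)

/-- The subgroup is normal or the order is three hundred and sixty. -/
theorem TI.four_case (h : TI S) {w x : G} (hw : w ∈ normalizer (S : Set G)) (hx : x ∈ S) (hx1 : x ≠ 1)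
    (hxy : w * x * w⁻¹ ∉ zpowers x) (hy : w * (w * x * w⁻¹) * w⁻¹ = x⁻¹)
    (hN : ∀ g ∈ normalizer (S : Set G), ∃ i : Fin 4, (w ^ (i : ℕ))⁻¹ * g ∈ S)
    (hcard : Nat.card (normalizer (S : Set G)) = 36) (h27 : ¬ 27 ∣ Nat.card G) :
    normalizer (S : Set G) = ⊤ ∨ Nat.card G = 360 := by
  classical
  set N := normalizer (S : Set G) with hNdef
  refine or_iff_not_imp_left.2 fun hne => ?_
  have hb := h.four_bound hw hx hx1 hxy hy hN
  have hmul := N.card_mul_index
  rw [hcard] at hmul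
  -- a nonidentity element of the subgroup fixes only the trivial coset
  obtain ⟨g, hg⟩ : ∃ g : G, g ∉ N := by
    by_contra hcon
    push Not at hcon
    exact hne (eq_top_iff.2 fun g _ => hcon g)
  let f : Option S → G ⧸ N := fun o => o.elim (QuotientGroup.mk 1) fun s => QuotientGroup.mk ((s : G) * g)
  have hf : Function.Injective f := by
    have key : ∀ s : G, s ∈ S → g⁻¹ * s * g ∈ N → s = 1 := by
      intro s hs hN'
      by_contra hs1
      have hc3 : (g⁻¹ * s * g) ^ 3 = 1 := by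
        rw [show g⁻¹ * s * g = g⁻¹ * s * g⁻¹⁻¹ by group, conj_pow, h.cube s hs]; group
      have hS : g⁻¹ * s * g ∈ S := h.mem_of_cube h27 hc3 hN'
      refine hg ((inv_mem_iff).1 (h.mem_normalizer hs hs1 (g := g⁻¹) ?_))
      simpa using hS
    rintro (_ | ⟨a, ha⟩) (_ | ⟨b, hb⟩) e
    · rfl
    · simp only [f, Option.elim, QuotientGroup.eq, inv_one, one_mul] at e
      exact absurd (by simpa using mul_mem (inv_mem (le_normalizer hb)) e) hg
    · simp only [f, Option.elim, QuotientGroup.eq, mul_one, inv_mem_iff] at e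
      exact absurd (by simpa using mul_mem (inv_mem (le_normalizer ha)) e) hg
    · simp only [f, Option.elim, QuotientGroup.eq] at e
      have := key (a⁻¹ * b) (mul_mem (inv_mem ha) hb) (by simpa [mul_assoc] using e)
      exact congrArg some (Subtype.ext (inv_mul_eq_one.1 this))
  have h10 : 10 ≤ N.index := by
    have := Nat.card_le_card_of_injective f hf
    rw [Finite.card_option, h.card] at this
    exact this
  have h12 : N.index ≤ 12 := by omega
  have h3 : ¬ 3 ∣ N.index := fun ⟨k, hk⟩ => h27 ⟨4 * k, by rw [← hmul, hk]; ring⟩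
  by_contra h360
  have h11 : N.index = 11 := by omega
  haveI : Fact (Nat.Prime 3) := ⟨Nat.prime_three⟩
  have hS3 : IsPGroup 3 S := IsPGroup.of_card (n := 2) (by rw [h.card]; norm_num)
  have hmod := hS3.card_modEq_card_fixedPoints (G ⧸ N)
  have hfix : MulAction.fixedPoints S (G ⧸ N) = {QuotientGroup.mk 1} := by
    ext q
    induction q using QuotientGroup.induction_on with
    | H k =>
      simp only [MulAction.mem_fixedPoints, Set.mem_singleton_iff]
      constructor
      · intro hk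
        have hk' := hk ⟨x, hx⟩
        rw [show (⟨x, hx⟩ : S) • (QuotientGroup.mk k : G ⧸ N) = QuotientGroup.mk (x * k) from rfl,
          QuotientGroup.eq] at hk'
        rw [QuotientGroup.eq, mul_one, inv_mem_iff]
        have hgN : k⁻¹ * x⁻¹ * k ∈ N := by simpa [mul_assoc] using hk'
        have hc3 : (k⁻¹ * x⁻¹ * k) ^ 3 = 1 := by
          rw [show k⁻¹ * x⁻¹ * k = k⁻¹ * x⁻¹ * k⁻¹⁻¹ by group, conj_pow, h.cube _ (inv_mem hx)]; group
        refine (inv_mem_iff).1 (h.mem_normalizer (inv_mem hx) (fun e => hx1 (inv_eq_one.1 e)) (g := k⁻¹) ?_)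
        simpa using h.mem_of_cube h27 hc3 hgN
      · rintro e ⟨s, hs⟩
        rw [e]
        exact QuotientGroup.eq.2 (by simpa using inv_mem (le_normalizer hs))
  rw [hfix, Nat.card_coe_set_eq, Set.ncard_singleton,
    ← Subgroup.index_eq_card, h11] at hmod
  exact absurd hmod (by decide)

end Cfsg.Agent.ThreeTINine
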