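import Cfsg.Agent.Char.Ortho
import Cfsg.Agent.CharArith.Basic
import Cfsg.Agent.ThreeKlein.Six
import Mathlib.GroupTheory.Sylow

/-!
# A self-centralising Sylow subgroup of order nine with trivial intersections
-/

set_option autoImplicit false

namespace Cfsg.Agent.ThreeTINine

open Cfsg Cfsg.Agent Subgroup
open scoped ComplexConjugate

universe u

variable {G : Type u} [Group G]

/-- The configuration. -/
structure TI (S : Subgroup G) : Prop where
  comm : ∀ x ∈ S, ∀ y ∈ S, x * y = y * x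
  cube : ∀ x ∈ S, x ^ 3 = 1
  card : Nat.card S = 9
  cent : ∀ x ∈ S, x ≠ 1 → centralizer ({x} : Set G) = S
  cover : ∀ g : G, g ^ 3 = 1 → ∃ k : G, k * g * k⁻¹ ∈ S

variable {S : Subgroup G}

theorem TI.of_sylow [Finite G] (P : Sylow 3 G) (hP : S = P) (comm : ∀ x ∈ S, ∀ y ∈ S, x * y = y * x)
    (cube : ∀ x ∈ S, x ^ 3 = 1) (card : Nat.card S = 9)
    (cent : ∀ x ∈ S, x ≠ 1 → centralizer ({x} : Set G) = S) : TI S := by
  refine ⟨comm, cube, card, cent, fun g hg => ?_⟩
  haveI : Fact (Nat.Prime 3) := ⟨Nat.prime_three⟩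
  have h3 : IsPGroup 3 (zpowers g) := fun ⟨x, hx⟩ => by
    obtain ⟨i, rfl⟩ := mem_zpowers_iff.1 hx
    refine ⟨1, Subtype.ext ?_⟩
    show (g ^ i) ^ (3 ^ 1) = 1
    rw [pow_one, ← zpow_natCast, ← zpow_mul, mul_comm, zpow_mul, zpow_natCast, hg, one_zpow]
  obtain ⟨Q, hQ⟩ := h3.exists_le_sylow
  obtain ⟨k, hk⟩ := MulAction.exists_smul_eq G Q P
  refine ⟨k, ?_⟩
  rw [hP, ← hk, Sylow.coe_subgroup_smul]
  exact ⟨g, hQ (mem_zpowers g), rfl⟩

/-- Fusion is controlled by the normalizer. -/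
theorem TI.mem_normalizer (h : TI S) {g x : G} (hx : x ∈ S) (hx1 : x ≠ 1) (hgx : g * x * g⁻¹ ∈ S) :
    g ∈ normalizer (S : Set G) := by
  have hy1 : g * x * g⁻¹ ≠ 1 := fun e => hx1 (conj_eq_one_iff.1 e)
  rw [mem_normalizer_iff]
  intro s
  rw [← h.cent x hx hx1, mem_centralizer_singleton_iff, mem_centralizer_singleton_iff]
  constructor
  · intro hs
    have : g * x * g⁻¹ ∈ S := hgx
    rw [← mem_centralizer_singleton_iff, h.cent x hx hx1, ← h.cent _ hgx hy1,
      mem_centralizer_singleton_iff]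
    calc g * s * g⁻¹ * (g * x * g⁻¹) = g * (s * x) * g⁻¹ := by group
      _ = g * x * g⁻¹ * (g * s * g⁻¹) := by rw [hs]; group
  · intro hs
    have h1 : g * s * g⁻¹ ∈ centralizer ({g * x * g⁻¹} : Set G) := by
      rw [h.cent _ hgx hy1, ← h.cent x hx hx1, mem_centralizer_singleton_iff]; exact hs
    rw [mem_centralizer_singleton_iff] at h1
    calc s * x = g⁻¹ * (g * s * g⁻¹ * (g * x * g⁻¹)) * g := by group
      _ = x * s := by rw [h1]; group

theorem TI.comm_of_cube (h : TI S) {z a b : G} (hz : z ^ 3 = 1) (hz1 : z ≠ 1) (ha : a * z = z * a)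
    (hb : b * z = z * b) : a * b = b * a := by
  obtain ⟨k, hk⟩ := h.cover z hz
  have hc : ∀ c, c * z = z * c → k * c * k⁻¹ ∈ S := fun c hc => by
    rw [← h.cent _ hk (fun e => hz1 (conj_eq_one_iff.1 e)), mem_centralizer_singleton_iff]
    calc k * c * k⁻¹ * (k * z * k⁻¹) = k * (c * z) * k⁻¹ := by group
      _ = k * z * k⁻¹ * (k * c * k⁻¹) := by rw [hc]; group
  have := h.comm _ (hc a ha) _ (hc b hb)
  calc a * b = k⁻¹ * ((k * a * k⁻¹) * (k * b * k⁻¹)) * k := by group
    _ = b * a := by rw [this]; group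

/-- Three elements of order three with product one generate a commutative group or are fused. -/
theorem TI.triple [Finite G] (h : TI S) {p q : G} (hp : p ^ 3 = 1) (hq : q ^ 3 = 1) (hpq : (p * q) ^ 3 = 1)
    (hp1 : p ≠ 1) : p * q = q * p ∨ (IsConj p q ∧ IsConj (p * p) (p * q)) := by
  have p3 : p * (p * p) = 1 := by rw [← hp, pow_three]
  have q3 : q * (q * q) = 1 := by rw [← hq, pow_three]
  have pq3 : p * q * (p * q * (p * q)) = 1 := by rw [← hpq, pow_three]
  have pi : p⁻¹ = p * p := inv_eq_of_mul_eq_one_right p3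
  have qi : q * q = q⁻¹ := (inv_eq_of_mul_eq_one_right q3).symm
  set a := p⁻¹ * q with ha
  set b := q * p⁻¹ with hb
  have hab' : a * b = (p * q * p)⁻¹ := by
    rw [ha, hb, show p⁻¹ * q * (q * p⁻¹) = p⁻¹ * (q * q) * p⁻¹ by group, qi]; group
  have hab : a * b = b * a := by
    have e2 : b * a = q * p * q := by
      rw [ha, hb, show q * p⁻¹ * (p⁻¹ * q) = q * (p * p)⁻¹ * q by group, ← pi, inv_inv]
    rw [hab', e2]
    exact inv_eq_of_mul_eq_one_right (by rw [← pq3]; group)
  have hb' : b = p * a * p⁻¹ := by rw [ha, hb]; group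
  set N : Subgroup G := closure {a, b}
  have hNc : ∀ x ∈ N, ∀ y ∈ N, x * y = y * x := by
    have : N ≤ centralizer (N : Set G) := by
      rw [centralizer_closure]
      refine (closure_le _).2 ?_
      rintro x (rfl | rfl) y (rfl | rfl) <;> first | rfl | exact hab | exact hab.symm
    exact fun x hx y hy => (this hy x hx)
  have hNp : ∀ x ∈ N, p⁻¹ * x * p ∈ N := by
    have : N ≤ N.comap (MulAut.conj p⁻¹).toMonoidHom := by
      refine (closure_le _).2 ?_
      rintro x (rfl | rfl)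
      · show p⁻¹ * a * p⁻¹⁻¹ ∈ N
        have : p⁻¹ * a * p⁻¹⁻¹ = a⁻¹ * b⁻¹ := by
          rw [← mul_inv_rev, ← hab, hab', inv_inv, ha,
            show p⁻¹ * (p⁻¹ * q) * p = (p * p)⁻¹ * q * p by group, ← pi, inv_inv, inv_inv]
        rw [this]
        exact mul_mem (inv_mem (subset_closure (by simp))) (inv_mem (subset_closure (by simp)))
      · show p⁻¹ * b * p⁻¹⁻¹ ∈ N
        rw [hb', show p⁻¹ * (p * a * p⁻¹) * p⁻¹⁻¹ = a by group]
        exact subset_closure (by simp)
    intro x hx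
    have := this hx
    simpa using this
  by_cases hfix : ∃ z ∈ N, z ≠ 1 ∧ p * z = z * p
  · obtain ⟨z, hz, hz1, hzp⟩ := hfix
    obtain ⟨k, hk⟩ := h.cover p hp
    have hkp1 : k * p * k⁻¹ ≠ 1 := fun e => hp1 (conj_eq_one_iff.1 e)
    have hz3 : z ^ 3 = 1 := by
      have : k * z * k⁻¹ ∈ S := by
        rw [← h.cent _ hk hkp1, mem_centralizer_singleton_iff]
        calc k * z * k⁻¹ * (k * p * k⁻¹) = k * (z * p) * k⁻¹ := by group
          _ = k * p * k⁻¹ * (k * z * k⁻¹) := by rw [← hzp]; group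
      have := h.cube _ this
      rwa [conj_pow, conj_eq_one_iff] at this
    left
    have hpa : p * a = a * p := h.comm_of_cube hz3 hz1 hzp (hNc a (subset_closure (by simp)) z hz)
    have : q = p * a := by rw [ha]; group
    rw [this]
    calc p * (p * a) = p * (a * p) := by rw [hpa]
      _ = p * a * p := by group
  push Not at hfix
  have fpf : ∀ (r : G), (∀ z, r * z = z * r → p * z = z * p) → (∀ x ∈ N, r⁻¹ * x * r ∈ N) →
      ∀ n ∈ N, IsConj r (r * n) := by
    intro r hr hrN n hn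
    let f : N → N := fun x => ⟨r⁻¹ * x * r * (x : G)⁻¹, mul_mem (hrN x x.2) (inv_mem x.2)⟩
    have hf : Function.Injective f := by
      rintro ⟨x, hx⟩ ⟨y, hy⟩ e
      have e' : r⁻¹ * x * r * x⁻¹ = r⁻¹ * y * r * y⁻¹ := congrArg Subtype.val e
      refine Subtype.ext ?_
      by_contra hne
      refine hfix (y⁻¹ * x) (mul_mem (inv_mem hy) hx) (fun e1 => hne (inv_mul_eq_one.1 e1).symm) (hr _ ?_)
      have c1 := hNc _ (inv_mem hx) _ (inv_mem hy)
      have c2 := hNc _ (hrN y hy) _ (inv_mem hy)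
      calc r * (y⁻¹ * x) = r * (y⁻¹ * x) := rfl
        _ = y⁻¹ * x * r := by
          have e2 : r⁻¹ * (y⁻¹ * x) * r = y⁻¹ * x := by
            calc r⁻¹ * (y⁻¹ * x) * r = (r⁻¹ * y * r)⁻¹ * (r⁻¹ * x * r * x⁻¹) * x := by group
              _ = y⁻¹ * x := by rw [e']; group
          calc r * (y⁻¹ * x) = r * (r⁻¹ * (y⁻¹ * x) * r) := by rw [e2]
            _ = y⁻¹ * x * r := by group
    obtain ⟨⟨w, hw⟩, e⟩ := (Finite.injective_iff_surjective.1 hf) ⟨n, hn⟩
    have e' : r⁻¹ * w * r * w⁻¹ = n := congrArg Subtype.val e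
    exact isConj_iff.2 ⟨w, by rw [← e']; group⟩
  right
  constructor
  · have := fpf p (fun z hz => hz) hNp a (subset_closure (by simp))
    rwa [ha, mul_inv_cancel_left] at this
  · have := fpf (p * p) (fun z hz => ?_) (fun x hx => ?_) a (subset_closure (by simp))
    · rwa [ha, show p * p * (p⁻¹ * q) = p * q by group] at this
    · have : p = (p * p) * (p * p) := by
        calc p = p * (p * (p * p)) := by rw [p3, mul_one]
          _ = (p * p) * (p * p) := by group
      rw [this, mul_assoc (p * p), hz, ← mul_assoc, hz, mul_assoc]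
    · rw [show (p * p)⁻¹ * x * (p * p) = p⁻¹ * (p⁻¹ * x * p) * p by group]
      exact hNp _ (hNp x hx)

end Cfsg.Agent.ThreeTINine
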